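import Cfsg.Prelude.Def_Perm
import Cfsg.Agent.H29.OutKit

/-! The one-dimensional affine and semi-affine groups of a finite field. -/

set_option autoImplicit false
set_option linter.unusedSectionVars false

namespace Cfsg.Agent.H19

open Subgroup

variable {K : Type*} [Field K]

theorem sa_unique {a a' b b' : K} {φ φ' : K ≃+* K} (ha : a ≠ 0)
    (h : ∀ x, a * φ x + b = a' * φ' x + b') : a = a' ∧ b = b' ∧ φ = φ' := by
  have h0 : b = b' := by simpa using h 0
  subst h0
  have h1 : a = a' := by simpa using h 1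
  subst h1
  exact ⟨rfl, rfl, RingEquiv.ext fun x => mul_left_cancel₀ ha (add_right_cancel (h x))⟩

/-- the permutation `x ↦ a φ(x) + b` -/
def saPerm (a : Kˣ) (b : K) (φ : K ≃+* K) : Equiv.Perm K :=
  φ.toEquiv.trans ((Units.mulLeft a).trans (Equiv.addRight b))

theorem saPerm_apply (a : Kˣ) (b : K) (φ : K ≃+* K) (x : K) : saPerm a b φ x = a * φ x + b := rfl

theorem card_semiaffine (K : Type*) [Field K] :
    Nat.card (semiaffineGroup K) = Nat.card Kˣ * (Nat.card K * Nat.card (RingAut K)) := by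
  rw [← Nat.card_prod, ← Nat.card_prod]
  symm
  refine Nat.card_congr (Equiv.ofBijective (fun s : Kˣ × K × RingAut K =>
    (⟨saPerm s.1 s.2.1 s.2.2, s.1, s.2.1, s.2.2, fun _ => rfl⟩ : semiaffineGroup K)) ⟨?_, ?_⟩)
  · rintro ⟨a, b, φ⟩ ⟨a', b', φ'⟩ h
    obtain ⟨h1, h2, h3⟩ := sa_unique (K := K) (a := a) (a' := a') (b := b) (b' := b') (φ := φ) (φ' := φ')
      a.ne_zero fun x => congrArg (fun σ : semiaffineGroup K => σ.1 x) h
    exact Prod.ext (Units.ext h1) (Prod.ext h2 h3)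
  · rintro ⟨σ, a, b, φ, h⟩
    exact ⟨⟨a, b, φ⟩, Subtype.ext (Equiv.ext fun x => (h x).symm)⟩

theorem card_affine (K : Type*) [Field K] :
    Nat.card (affineGroup K) = Nat.card Kˣ * Nat.card K := by
  rw [← Nat.card_prod]
  symm
  refine Nat.card_congr (Equiv.ofBijective (fun s : Kˣ × K =>
    (⟨saPerm s.1 s.2 (RingEquiv.refl K), s.1, s.2, fun _ => rfl⟩ : affineGroup K)) ⟨?_, ?_⟩)
  · rintro ⟨a, b⟩ ⟨a', b'⟩ h
    obtain ⟨h1, h2, -⟩ := sa_unique (K := K) (a := a) (a' := a') (b := b) (b' := b')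
      (φ := RingEquiv.refl K) (φ' := RingEquiv.refl K)
      a.ne_zero fun x => congrArg (fun σ : affineGroup K => σ.1 x) h
    exact Prod.ext (Units.ext h1) h2
  · rintro ⟨σ, a, b, h⟩
    exact ⟨⟨a, b⟩, Subtype.ext (Equiv.ext fun x => (h x).symm)⟩

theorem card_semilinear (K : Type*) [Field K] :
    Nat.card ↥(semiaffineGroup K ⊓ MulAction.stabilizer (Equiv.Perm K) (0 : K)) =
      Nat.card Kˣ * Nat.card (RingAut K) := by
  rw [← Nat.card_prod]
  symm
  refine Nat.card_congr (Equiv.ofBijective (fun s : Kˣ × RingAut K =>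
    (⟨saPerm s.1 0 s.2, mem_inf.2 ⟨⟨s.1, 0, s.2, fun _ => rfl⟩, by
      simp [saPerm_apply]⟩⟩ : ↥(semiaffineGroup K ⊓ MulAction.stabilizer (Equiv.Perm K) (0 : K))))
      ⟨?_, ?_⟩)
  · rintro ⟨a, φ⟩ ⟨a', φ'⟩ h
    obtain ⟨h1, -, h3⟩ := sa_unique (K := K) (a := a) (a' := a') (b := 0) (b' := 0) (φ := φ)
      (φ' := φ') a.ne_zero fun x => congrArg (fun σ : ↥(semiaffineGroup K ⊓
        MulAction.stabilizer (Equiv.Perm K) (0 : K)) => σ.1 x) h
    exact Prod.ext (Units.ext h1) h3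
  · rintro ⟨σ, ⟨a, b, φ, h⟩, h0⟩
    have h1 : b = 0 := by simpa using (h 0).symm.trans h0
    subst h1
    exact ⟨⟨a, φ⟩, Subtype.ext (Equiv.ext fun x => (h x).symm)⟩

/-- the field automorphism of a semi-affine map -/
noncomputable def saTheta (K : Type*) [Field K] : semiaffineGroup K →* RingAut K :=
  MonoidHom.mk' (fun σ => σ.2.choose_spec.choose_spec.choose) (by
    intro σ τ
    have h1 := σ.2.choose_spec.choose_spec.choose_spec
    have h2 := τ.2.choose_spec.choose_spec.choose_spec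
    have h3 := (σ * τ).2.choose_spec.choose_spec.choose_spec
    refine (sa_unique (K := K) (Units.ne_zero (σ * τ).2.choose) (b := (σ * τ).2.choose_spec.choose)
      (a' := σ.2.choose *
      σ.2.choose_spec.choose_spec.choose τ.2.choose) (b' := σ.2.choose *
      σ.2.choose_spec.choose_spec.choose τ.2.choose_spec.choose + σ.2.choose_spec.choose)
      fun x => ?_).2.2
    rw [← h3 x, Subgroup.coe_mul, Equiv.Perm.mul_apply, h2, h1]
    simp only [map_add, map_mul, RingAut.mul_apply]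
    ring)

theorem saTheta_eq {σ : semiaffineGroup K} {a b : K} {φ : K ≃+* K} (ha : a ≠ 0)
    (h : ∀ x, σ.1 x = a * φ x + b) : saTheta K σ = φ :=
  (sa_unique ha fun x => (h x).symm.trans (σ.2.choose_spec.choose_spec.choose_spec x)).2.2.symm

theorem mem_affine_of_saTheta {σ : semiaffineGroup K} (h : saTheta K σ = 1) :
    σ.1 ∈ affineGroup K := by
  obtain ⟨a, b, φ, h1⟩ := σ.2
  rw [saTheta_eq a.ne_zero h1] at h
  subst h
  exact ⟨a, b, h1⟩

theorem le_affine_of_coprime {R : Subgroup (Equiv.Perm K)} (hR : R ≤ semiaffineGroup K)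
    (hc : (Nat.card R).Coprime (Nat.card (RingAut K))) : R ≤ affineGroup K := by
  intro σ hσ
  refine mem_affine_of_saTheta (σ := ⟨σ, hR hσ⟩) ?_
  have h1 : orderOf (saTheta K ⟨σ, hR hσ⟩) ∣ Nat.card R :=
    (orderOf_map_dvd _ _).trans (by rw [← orderOf_coe]; exact R.orderOf_dvd_natCard hσ)
  exact orderOf_eq_one_iff.1 (Nat.eq_one_of_dvd_coprimes hc h1 (orderOf_dvd_natCard _))

variable {K' : Type*} [Field K']

theorem semiaffine_map_le (e : K ≃+* K') :
    (semiaffineGroup K).map (e.toEquiv.permCongrHom : Equiv.Perm K →* Equiv.Perm K') ≤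
      semiaffineGroup K' := by
  rintro _ ⟨σ, ⟨a, b, φ, h⟩, rfl⟩
  refine ⟨Units.map (e : K →* K') a, e b, (e.symm.trans φ).trans e, fun x => ?_⟩
  change e (σ (e.symm x)) = _
  simp [h]

theorem affine_map_le (e : K ≃+* K') :
    (affineGroup K).map (e.toEquiv.permCongrHom : Equiv.Perm K →* Equiv.Perm K') ≤
      affineGroup K' := by
  rintro _ ⟨σ, ⟨a, b, h⟩, rfl⟩
  refine ⟨Units.map (e : K →* K') a, e b, fun x => ?_⟩
  change e (σ (e.symm x)) = _
  simp [h]

theorem nonempty_equiv_of_injective {G H : Type*} [Group G] [Group H] [Finite H] (f : G →* H)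
    (hf : Function.Injective f) {R : Subgroup H} (hR : f.range ≤ R)
    (hc : Nat.card R ≤ Nat.card G) : Nonempty (G ≃* R) := by
  have e := MonoidHom.ofInjective hf
  have : f.range = R := eq_of_le_of_card_ge hR (by rwa [← Nat.card_congr e.toEquiv])
  exact ⟨this ▸ e⟩

end Cfsg.Agent.H19
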