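import Cfsg.Agent.H19.EqA
import Cfsg.Agent.H19.SemiAff
import Cfsg.Agent.H26.Singer
import Cfsg.Agent.H54.FT

/-! Elementary abelian Sylow `2`-subgroups whose subgroups of equal order are conjugate. -/

set_option autoImplicit false
set_option linter.unusedSectionVars false

namespace Cfsg.Agent.H19

open Subgroup Cfsg.Agent.H49
open scoped commutatorElement

universe u

variable {G : Type u} [Group G] [Finite G]

theorem AP.not_le_cent {p : ℕ} (h : AP p G) (hp : p.Prime) {P : Subgroup G}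
    (hP : IsSylowOf p P ⊤) (hel : IsElementaryAbelian p P) (h2 : p < Nat.card P) :
    ¬ 𝒩(P) ≤ 𝒞(P) := by
  obtain ⟨n, hn⟩ := exists_isElem_of_elem hp hel le_rfl
  have hn2 : 2 ≤ n := by
    rw [hn.card] at h2
    have := (Nat.pow_lt_pow_iff_right hp.one_lt).1 ((pow_one p).trans_lt h2)
    omega
  obtain ⟨V, hV⟩ := hn.sub hp hn2
  obtain ⟨X, hX⟩ := hV.sub hp (m := 1) (by norm_num)
  obtain ⟨Y, hY, hYX⟩ := hV.exists_line_ne hp hX
  obtain ⟨g, hg, hgX⟩ := h.norm hP hel.1 (hX.mono hV.le) (hY.mono hV.le)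
  intro hle
  exact hYX (hgX.symm.trans (cj_eq_of_mem_cent (cent_anti (hX.le.trans hV.le) (hle hg))))

theorem exists_abelian_automizer {T : Subgroup G} (hs : Group.IsSolvable 𝒩(T))
    (hn : ¬ 𝒩(T) ≤ 𝒞(T)) :
    ∃ A : Subgroup G, A ≤ 𝒩(T) ∧ 𝒩(T) ≤ 𝒩(A) ∧ ¬ A ≤ 𝒞(T) ∧ ⁅A, A⁆ ≤ 𝒞(T) := by
  classical
  have hex : ∃ k, ∃ A : Subgroup G, A ≤ 𝒩(T) ∧ 𝒩(T) ≤ 𝒩(A) ∧ ¬ A ≤ 𝒞(T) ∧ Nat.card A = k :=
    ⟨_, _, le_rfl, le_normalizer, hn, rfl⟩
  obtain ⟨A, h1, h2, h3, h4⟩ := Nat.find_spec hex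
  refine ⟨A, h1, h2, h3, ?_⟩
  by_contra h5
  have h6 := Nat.find_min' hex ⟨⁅A, A⁆, der_le.trans h1, norm_commutator h2 h2, h5, rfl⟩
  have h7 := card_lt_of_lt (der_lt_of_solvable (solvable_of_le hs h1) (by
    rintro rfl; exact h3 bot_le))
  omega

theorem solvable_norm_of_sylow_two {T : Subgroup G} (hT : IsSylowOf 2 T ⊤) :
    Group.IsSolvable 𝒩(T) := by
  refine solvable_of_quo (N := T) (solvable_of_nilpotent hT.pi.nilpotent) le_rfl
    (H54.odd_order_solvable ?_)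
  rw [card_quo le_rfl, ← Nat.not_even_iff_odd, even_iff_two_dvd]
  exact (hT.sub le_normalizer le_top).index.not_dvd Nat.prime_two rfl

theorem eq_of_mem_zpowers_two {u v : G} (hu : u ^ 2 = 1) (hv : v ∈ zpowers u) (hv1 : v ≠ 1) :
    v = u := by
  obtain ⟨k, rfl⟩ := hv
  have hu' : u ^ (2 : ℤ) = 1 := by exact_mod_cast hu
  rcases Int.even_or_odd' k with ⟨m, rfl | rfl⟩
  · exact absurd (by simp only [zpow_mul, hu', one_zpow]) hv1
  · simp only [zpow_add, zpow_mul, hu', one_zpow, zpow_one, one_mul]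

theorem AP.coords (h : AP 2 G) {T : Subgroup G} (hT : IsSylowOf 2 T ⊤)
    (hel : IsElementaryAbelian 2 T) (h2 : 2 < Nat.card T) :
    ∃ (K : Type) (_ : Field K) (_ : Fintype K) (φ : K → G), Function.Injective φ ∧
      (∀ u, u ∈ T ↔ ∃ x, φ x = u) ∧ (∀ x y, φ (x + y) = φ x * φ y) ∧
      ∀ g ∈ 𝒩(T), ∃ c : K, c ≠ 0 ∧ ∃ θ : K ≃+* K, ∀ x, g * φ x * g⁻¹ = φ (c * θ x) := by
  obtain ⟨A, hAN, hNA, hAC, hAA⟩ := exists_abelian_automizer (solvable_norm_of_sylow_two hT)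
    (h.not_le_cent Nat.prime_two hT hel h2)
  have hA : ∃ X, IsElem 2 1 X T ∧ ¬ A ≤ 𝒩(X) := by
    by_contra hc
    push Not at hc
    refine hAC (le_cent_iff.2 fun a ha u hu => ?_)
    by_cases hu1 : u = 1
    · simp [hu1]
    have h3 := conj_mem_of_norm (hc _ (isElem_zpowers' Nat.prime_two hu (hel.2 u hu) hu1)) ha
      (mem_zpowers u)
    have h4 := eq_of_mem_zpowers_two (hel.2 u hu) h3 (by simpa using hu1)
    exact (mul_inv_eq_iff_eq_mul.1 h4).symm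
  have hT0 : T ≠ ⊥ := by
    rintro rfl
    simp at h2
  obtain ⟨u₀, hu₀, hu₁⟩ := ne_bot_iff_exists.1 hT0
  obtain ⟨K, _, _, φ, h3, h4, h5, -, h6⟩ := H26.exists_field_of_normalizes T
    (fun x hx y hy => le_cent_iff.1 (abelian_iff.1 hel.1) y hy x hx) (A : Set G)
    (fun x hx y hy u hu => by
      have h7 : ⁅x⁻¹, y⁻¹⁆ ∈ 𝒞(T) := hAA (commutator_mem_commutator (inv_mem hx) (inv_mem hy))
      have h8 := mem_centralizer_iff.1 h7 u hu
      rw [commutatorElement_def, inv_inv, inv_inv] at h8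
      calc x * y * u * (x * y)⁻¹ = y * x * (x⁻¹ * y⁻¹ * x * y * u) * (x * y)⁻¹ := by group
        _ = _ := by rw [← h8]; group)
    (fun a ha u hu => conj_mem_of_norm hAN ha hu)
    (fun U hU hAU => h.irred Nat.prime_two hT hel hNA hA hU (le_norm_iff.2 hAU)) hu₀ hu₁
  refine ⟨K, inferInstance, inferInstance, φ, h3, h4, h5, fun g hg => ?_⟩
  obtain ⟨c, hc, θ, h7, -⟩ := h6 g (fun u hu => conj_mem_of_norm le_rfl hg hu)
    (fun a ha => conj_mem_of_norm hNA hg ha)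
  exact ⟨c, hc, θ, h7⟩

theorem card_eq_of_coords {T : Subgroup G} {K : Type*} {φ : K → G} (h1 : Function.Injective φ)
    (h2 : ∀ u, u ∈ T ↔ ∃ x, φ x = u) : Nat.card K = Nat.card T :=
  Nat.card_congr (Equiv.ofBijective (fun x => (⟨φ x, (h2 _).2 ⟨x, rfl⟩⟩ : T))
    ⟨fun _ _ e => h1 (congrArg Subtype.val e), fun u => by
      obtain ⟨x, hx⟩ := (h2 _).1 u.2
      exact ⟨x, Subtype.ext hx⟩⟩)

theorem automizer_dvd_of_coords {T : Subgroup G} {K : Type*} [Field K] {φ : K → G}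
    (h1 : Function.Injective φ) (h2 : ∀ u, u ∈ T ↔ ∃ x, φ x = u)
    (h4 : ∀ g ∈ 𝒩(T), ∃ c : K, c ≠ 0 ∧ ∃ θ : K ≃+* K, ∀ x, g * φ x * g⁻¹ = φ (c * θ x)) :
    (𝒞(T)).relIndex 𝒩(T) ∣ Nat.card Kˣ * Nat.card (RingAut K) := by
  let e : K ≃ T := Equiv.ofBijective (fun x => (⟨φ x, (h2 _).2 ⟨x, rfl⟩⟩ : T))
    ⟨fun _ _ e => h1 (congrArg Subtype.val e), fun u => by
      obtain ⟨x, hx⟩ := (h2 _).1 u.2
      exact ⟨x, Subtype.ext hx⟩⟩
  let ι : MulAut T →* Equiv.Perm K :=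
    (e.symm.permCongrHom : Equiv.Perm T →* Equiv.Perm K).comp (MulAut.toPerm T)
  have hι : Function.Injective ι := e.symm.permCongrHom.injective.comp MulEquiv.toEquiv_injective
  let ρ := ι.comp T.normalizerMonoidHom
  have hk : ρ.ker = (𝒞(T)).subgroupOf 𝒩(T) := by
    rw [← T.normalizerMonoidHom_ker, ← MonoidHom.comap_ker, (MonoidHom.ker_eq_bot_iff ι).2 hι,
      MonoidHom.comap_bot]
  have hr : ρ.range ≤ semiaffineGroup K ⊓ MulAction.stabilizer (Equiv.Perm K) (0 : K) := by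
    rintro _ ⟨g, rfl⟩
    obtain ⟨c, hc, θ, h5⟩ := h4 g g.2
    have h6 : ∀ x, ρ g x = c * θ x := fun x => by
      change e.symm (T.normalizerMonoidHom g (e x)) = _
      rw [Equiv.symm_apply_eq]
      exact Subtype.ext (h5 x)
    exact mem_inf.2 ⟨⟨Units.mk0 c hc, 0, θ, fun x => by simp [h6]⟩, by simp [h6]⟩
  rw [relIndex, ← hk, index_ker, ← card_semilinear]
  exact card_dvd_of_le hr

theorem AP.rank (h : AP 2 G) {T : Subgroup G} (hT : IsSylowOf 2 T ⊤)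
    (hel : IsElementaryAbelian 2 T) {n : ℕ} (hn : Nat.card T = 2 ^ n) (h2 : 2 ≤ n) :
    (n = 2 ∧ (𝒞(T)).relIndex 𝒩(T) = 3) ∨
      (n = 3 ∧ ((𝒞(T)).relIndex 𝒩(T) = 7 ∨ (𝒞(T)).relIndex 𝒩(T) = 21)) ∨
      (n = 5 ∧ (𝒞(T)).relIndex 𝒩(T) = 155) := by
  have hlt : 2 < Nat.card T := by
    rw [hn]
    calc 2 < 2 ^ 2 := by norm_num
      _ ≤ 2 ^ n := Nat.pow_le_pow_right (by norm_num) h2
  obtain ⟨K, _, _, φ, h3, h4, -, h6⟩ := h.coords hT hel hlt
  have hK := (card_eq_of_coords h3 h4).trans hn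
  have hd := automizer_dvd_of_coords h3 h4 h6
  rw [Nat.card_units, hK, H29.card_ringAut (p := 2) (f := n)
    (by rw [← Nat.card_eq_fintype_card, hK])] at hd
  have hc := h.count Nat.prime_two hT hel hlt
  have hodd : ¬ 2 ∣ (𝒞(T)).relIndex 𝒩(T) := fun h7 =>
    (hT.sub le_normalizer le_top).index.not_dvd Nat.prime_two rfl
      (h7.trans (relIndex_dvd_of_le_left _ (abelian_iff.1 hel.1)))
  have h1 : (𝒞(T)).relIndex 𝒩(T) ≠ 1 := fun h7 =>
    h.not_le_cent Nat.prime_two hT hel hlt (relIndex_eq_one.1 h7)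
  rw [hn] at hc hlt
  generalize (𝒞(T)).relIndex 𝒩(T) = r at *
  have hle := Nat.le_of_dvd (Nat.mul_pos (by omega) (by omega)) hd
  have hn5 : n ≤ 5 := by
    by_contra h7
    have h8 : ∀ m : ℕ, 6 * (m + 6) + 2 < 2 ^ (m + 6) := by
      intro m
      induction m with
      | zero => norm_num
      | succ m ih => rw [show m + 1 + 6 = (m + 6) + 1 by ring, pow_succ]; omega
    obtain ⟨m, rfl⟩ : ∃ m, n = m + 6 := ⟨n - 6, by omega⟩
    have h9 : (2 ^ (m + 6) - 1) * (2 ^ (m + 6) - 2) ≤ (2 ^ (m + 6) - 1) * (6 * (m + 6)) := by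
      refine hc.trans ?_
      norm_num
      nlinarith
    have := Nat.le_of_mul_le_mul_left h9 (by omega)
    have := h8 m
    omega
  interval_cases n
  · left
    norm_num at hd hle ⊢
    interval_cases r <;> omega
  · right; left
    norm_num at hd hle hc ⊢
    interval_cases r <;> omega
  · exfalso
    norm_num at hd hle hc
    interval_cases r <;> omega
  · right; right
    norm_num at hd hle hc ⊢
    omega

/-- A group with a self-centralizing normal Sylow subgroup with field coordinates is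
semi-affine. -/
theorem exists_semiaffine_hom {p : ℕ} {T : Subgroup G} [T.Normal] (hT : IsSylowOf p T ⊤)
    (hC : 𝒞(T) ≤ T) {K : Type*} [Field K] {φ : K → G}
    (h1 : Function.Injective φ) (h2 : ∀ u, u ∈ T ↔ ∃ x, φ x = u)
    (h3 : ∀ x y, φ (x + y) = φ x * φ y)
    (h4 : ∀ g ∈ 𝒩(T), ∃ c : K, c ≠ 0 ∧ ∃ θ : K ≃+* K, ∀ x, g * φ x * g⁻¹ = φ (c * θ x)) :
    ∃ ρ : G →* Equiv.Perm K, Function.Injective ρ ∧ ρ.range ≤ semiaffineGroup K := by
  have hn : ⊤ ≤ 𝒩(T) := normal_iff_top_le_norm.1 inferInstance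
  obtain ⟨E, hE⟩ := exists_compl_of_coprime le_top hn hT.coprime
  have hd : T ⊓ E = ⊥ := (isComplIn_iff.1 hE.isComplIn).2
  have hφ0 : φ 0 = 1 := by simpa using h3 0 0
  have hdec : ∀ g : G, ∃ b, ∃ y ∈ E, g = φ b * y := by
    intro g
    obtain ⟨t, ht, y, hy, rfl⟩ := hE.isProd.2.2 g (mem_top g)
    obtain ⟨b, rfl⟩ := (h2 t).1 ht
    exact ⟨b, y, hy, rfl⟩
  let ε : K ≃ G ⧸ E := Equiv.ofBijective (fun x => (φ x : G ⧸ E)) ⟨fun x y e => by
      have h5 : (φ x)⁻¹ * φ y ∈ T ⊓ E := mem_inf.2 ⟨mul_mem (inv_mem ((h2 _).2 ⟨x, rfl⟩))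
        ((h2 _).2 ⟨y, rfl⟩), QuotientGroup.eq.1 e⟩
      rw [hd, mem_bot, inv_mul_eq_one] at h5
      exact h1 h5, fun c => by
      obtain ⟨g, rfl⟩ := QuotientGroup.mk_surjective c
      obtain ⟨b, y, hy, rfl⟩ := hdec g
      exact ⟨b, QuotientGroup.eq.2 (by simpa using hy)⟩⟩
  let ρ : G →* Equiv.Perm K :=
    (ε.symm.permCongrHom : Equiv.Perm (G ⧸ E) →* Equiv.Perm K).comp (MulAction.toPermHom G (G ⧸ E))
  have hρ : ∀ b, ∀ y ∈ E, ∀ c (θ : K ≃+* K), (∀ x, y * φ x * y⁻¹ = φ (c * θ x)) →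
      ∀ x, ρ (φ b * y) x = c * θ x + b := by
    intro b y hy c θ h5 x
    change ε.symm ((φ b * y) • ε x) = _
    rw [Equiv.symm_apply_eq]
    change ((φ b * y * φ x : G) : G ⧸ E) = (φ (c * θ x + b) : G)
    rw [add_comm, h3, ← h5, QuotientGroup.eq]
    simpa [mul_assoc] using hy
  refine ⟨ρ, (injective_iff_map_eq_one ρ).2 fun g hg => ?_, ?_⟩
  · obtain ⟨b, y, hy, rfl⟩ := hdec g
    obtain ⟨c, hc, θ, h5⟩ := h4 y (hn (mem_top y))
    have h6 : ∀ x, c * θ x + b = 1 * RingEquiv.refl K x + 0 := fun x => by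
      rw [← hρ b y hy c θ h5 x, hg]; simp
    obtain ⟨rfl, rfl, rfl⟩ := sa_unique hc h6
    have h7 : y ∈ T ⊓ E := by
      refine mem_inf.2 ⟨hC (mem_centralizer_iff.2 fun u hu => ?_), hy⟩
      obtain ⟨x, rfl⟩ := (h2 u).1 hu
      have := h5 x
      simp only [one_mul, RingEquiv.refl_apply] at this
      exact (mul_inv_eq_iff_eq_mul.1 this).symm
    rw [hd, mem_bot] at h7
    rw [h7, hφ0, one_mul]
  · rintro _ ⟨g, rfl⟩
    obtain ⟨b, y, hy, rfl⟩ := hdec g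
    obtain ⟨c, hc, θ, h5⟩ := h4 y (hn (mem_top y))
    exact ⟨Units.mk0 c hc, b, θ, hρ b y hy c θ h5⟩

end Cfsg.Agent.H19
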