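import Cfsg.Agent.H20.Kegel
import Cfsg.Agent.H20.NilHall
import Cfsg.Agent.H49.Core
import Cfsg.Agent.H49.Hall
import Cfsg.Agent.S0143
import Cfsg.Agent.S0581
import Cfsg.Agent.H19.Basic

/-! The theorem of Wielandt and Kegel: a product of two nilpotent groups is solvable. -/

set_option autoImplicit false
set_option linter.unusedSectionVars false

namespace Cfsg.Agent.H19

open Subgroup Cfsg.Agent.H49

universe u

variable {G : Type u} [Group G] [Finite G]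

/-- The minimal counterexample to the theorem of Wielandt. -/
structure KW (π : Set ℕ) (A B : Subgroup G) : Prop where
  simple : ∀ N : Subgroup G, N.Normal → N = ⊥ ∨ N = ⊤
  nilA : Group.IsNilpotent A
  nilB : Group.IsNilpotent B
  piA : IsPi π A
  piB : IsPi πᶜ B
  prod : IsProd A B ⊤
  ind : ∀ M : Subgroup G, M ≠ ⊤ → IsProd (A ⊓ M) (B ⊓ M) M → Group.IsSolvable M
  nsolv : ¬ Group.IsSolvable (⊤ : Subgroup G)

namespace KW

variable {π : Set ℕ} {A B : Subgroup G}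

theorem symm (h : KW π A B) : KW πᶜ B A :=
  ⟨h.simple, h.nilB, h.nilA, h.piB, h.piA.compl_compl, h.prod.symm,
    fun M hM hp => h.ind M hM hp.symm, h.nsolv⟩

theorem norm_ne_top (h : KW π A B) {X : Subgroup G} (hX : X ≠ ⊥) (hs : Group.IsSolvable X) :
    𝒩(X) ≠ ⊤ := by
  intro e
  rcases h.simple X (normal_iff_top_le_norm.2 e.ge) with e' | rfl
  exacts [hX e', h.nsolv hs]

theorem norm_ne_top' (h : KW π A B) {X : Subgroup G} (hX : X ≠ ⊥) (hA : X ≤ A) : 𝒩(X) ≠ ⊤ :=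
  h.norm_ne_top hX (solvable_of_nilpotent (nilpotent_of_le h.nilA hA))

theorem cent1_ne_top (h : KW π A B) {x : G} (hx : x ≠ 1) : 𝒞[x] ≠ ⊤ := by
  refine ne_top_anti ?_ (h.norm_ne_top (X := zpowers x) (by simpa using hx)
    (solvable_of_abelian inferInstance))
  rw [← cent_zpowers]
  exact cent_le_norm _

theorem ne_bot (h : KW π A B) : A ≠ ⊥ := by
  rintro rfl
  have := h.prod.sup_eq
  rw [bot_sup_eq] at this
  subst this
  exact h.nsolv (solvable_of_nilpotent h.nilB)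

theorem inf_eq_bot (h : KW π A B) : A ⊓ B = ⊥ := h.piA.inf_eq_bot h.piB

theorem eq_one (h : KW π A B) {x : G} (hA : x ∈ A) (hB : x ∈ B) : x = 1 :=
  mem_bot.1 (h.inf_eq_bot ▸ (⟨hA, hB⟩ : x ∈ A ⊓ B))

theorem hall (h : KW π A B) : IsPiHallOf π A ⊤ := Cfsg.IsPiHallOf.of_isProd h.piA h.piB h.prod

theorem center_ne_bot (h : KW π A B) : A ⊓ 𝒞(A) ≠ ⊥ := center_ne_bot_of_nilpotent h.nilA h.ne_bot

theorem star (h : KW π A B) {M B₀ : Subgroup G} (hA : A ≤ M) (h1 : B₀ ≤ M) (h2 : B ≤ 𝒩(B₀))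
    (h3 : B₀ ≠ ⊥) : M = ⊤ := by
  have h4 : H20.ncl ⊤ B₀ ≤ M := H20.ncl_le_iff.2 fun g hg => by
    obtain ⟨a, ha, b, hb, rfl⟩ := h.prod.2.2 g hg
    rw [cj_mul, cj_eq_of_mem_norm (h2 hb)]
    exact cj_le_of_mem h1 (hA ha)
  rcases h.simple _ (H20.ncl_top_normal B₀) with e | e
  · exact absurd e (ne_bot_mono (H20.le_ncl ⊤ B₀) h3)
  · exact top_le_iff.1 (e ▸ h4)

theorem exists_prime (h : KW π A B) (p : ℕ) : ∃ r, r.Prime ∧ r ≠ p ∧ r ∣ Nat.card A := by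
  by_contra hc
  push Not at hc
  have h1 : IsPi {p} A := fun r hr hd => by
    by_contra e
    exact hc r hr e hd
  have hp := h1.prime h.ne_bot
  obtain ⟨z, hz, hz1⟩ := ne_bot_iff_exists.1 h.symm.center_ne_bot
  haveI : Nontrivial G := ⟨⟨z, 1, hz1⟩⟩
  haveI : IsSimpleGroup G := ⟨h.simple⟩
  have h2 : IsPiNat {p} (𝒞[z]).index := by
    have e := h.prod.relIndex_eq
    rw [relIndex_top_right] at e
    refine IsPiNat.of_dvd (h1.relIndex B) (e ▸ index_dvd_of_le (le_cent1_iff.2 hz.2))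
  obtain ⟨k, hk⟩ := (isPiNat_singleton hp index_ne_zero_of_finite).1 h2
  haveI := Fact.mk (S0143.result p k hp z hz1 hk)
  haveI : IsCyclic G := isCyclic_of_prime_card rfl
  exact h.nsolv (solvable_of_abelian (abelian_of_cyclic inferInstance))

theorem pcore_ne_bot {X : Subgroup G} (hX : Group.IsNilpotent X) {r : ℕ} (hr : r.Prime)
    (hd : r ∣ Nat.card X) : piCoreOf {r} X ≠ ⊥ :=
  (nilpotent_hall_piCoreOf hX {r}).ne_bot hr rfl hd

theorem key (h : KW π A B) {p q : ℕ} {A₀ B₀ : Subgroup G} (a1 : A₀ ≤ A) (a2 : A ≤ 𝒩(A₀))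
    (a3 : A₀ ≠ ⊥) (a4 : IsPi {p} A₀) (b1 : B₀ ≤ B) (b2 : B ≤ 𝒩(B₀)) (b3 : B₀ ≠ ⊥)
    (b4 : IsPi {q} B₀) (hne : A₀ ⊔ B₀ ≠ ⊤) :
    (∃ V, V ≠ ⊥ ∧ V ≤ A ∧ IsPi {p} V ∧ A₀ ⊔ B₀ ≤ 𝒩(V)) ∨
      ∃ V, V ≠ ⊥ ∧ V ≤ B ∧ IsPi {q} V ∧ A₀ ⊔ B₀ ≤ 𝒩(V) := by
  have hb : A₀ ⊔ B₀ ≠ ⊥ := ne_bot_mono le_sup_left a3
  have hL : 𝒩(A₀ ⊔ B₀) ≠ ⊤ := fun e =>
    (h.simple _ (normal_iff_top_le_norm.2 e.ge)).elim hb hne
  have hpr := H20.isProd_norm_sup h.prod a2 b2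
  rw [top_inf_eq] at hpr
  have hs := h.ind _ hL hpr
  have hp : p ∈ π := a4.mem_of_ne_bot a3 (h.piA.of_le a1)
  have hq : q ∈ πᶜ := b4.mem_of_ne_bot b3 (h.piB.of_le b1)
  have hA := Cfsg.IsPiHallOf.of_isProd (h.piA.inf_left _) (h.piB.inf_left _) hpr
  have hB := Cfsg.IsPiHallOf.of_isProd (h.piB.inf_left _) (h.piA.inf_left _).compl_compl hpr.symm
  have nA := nilpotent_of_le h.nilA (inf_le_left : A ⊓ 𝒩(A₀ ⊔ B₀) ≤ A)
  have nB := nilpotent_of_le h.nilB (inf_le_left : B ⊓ 𝒩(A₀ ⊔ B₀) ≤ B)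
  have h1 := H20.isProd_of_hall_normal hs hpr (le_norm_piCoreOf {p} _) (le_norm_piCoreOf {q} _)
    ((nilpotent_hall_piCoreOf nA {p}).trans_sylow hA hp)
    ((nilpotent_hall_piCoreOf nB {q}).trans_sylow hB hq)
  have h2 : IsPi {p, q} (A₀ ⊔ B₀) :=
    (IsPi.of_isProd ((piCoreOf_pi _ _).of_singleton (by simp))
      ((piCoreOf_pi _ _).of_singleton (by simp)) h1).of_le (sup_le_sup
        (nilpotent_le_piCoreOf nA (le_inf a1 (norm_of_le le_sup_left)) a4)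
        (nilpotent_le_piCoreOf nB (le_inf b1 (norm_of_le le_sup_right)) b4))
  obtain ⟨r, hr, hd⟩ := exists_prime_dvd_card
    (fittingOf_ne_bot (solvable_of_le hs le_normalizer) hb)
  have h3 := pcore_ne_bot (fittingOf_nil _) hr hd
  rw [pcore_fittingOf] at h3
  rcases h2 r hr (hd.trans (card_dvd_of_le (fittingOf_le _))) with rfl | rfl
  · exact Or.inl ⟨_, h3, (hA.normal_le ((piCoreOf_le _ _).trans le_normalizer)
      (norm_le_norm_piCoreOf _ _) ((piCoreOf_pi _ _).of_singleton hp)).trans inf_le_left,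
      piCoreOf_pi _ _, le_norm_piCoreOf _ _⟩
  · exact Or.inr ⟨_, h3, (hB.normal_le ((piCoreOf_le _ _).trans le_normalizer)
      (norm_le_norm_piCoreOf _ _) ((piCoreOf_pi _ _).of_singleton hq)).trans inf_le_left,
      piCoreOf_pi _ _, le_norm_piCoreOf _ _⟩

theorem key1 (h : KW π A B) {r : ℕ} {V B₀ : Subgroup G} (h1 : V ≠ ⊥) (h2 : V ≤ A)
    (h3 : IsPi {r} V) (h4 : piCoreOf {r} A ≤ 𝒩(V)) (h5 : B₀ ≤ 𝒩(V)) (b2 : B ≤ 𝒩(B₀))
    (b3 : B₀ ≠ ⊥) : False := by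
  refine h.norm_ne_top' h1 h2 (h.star ?_ h5 b2 b3)
  rw [← (nilpotent_isDp h.nilA {r}).1]
  exact sup_le h4 (norm_of_cent (cent_symm
    (nilpotent_cent h.nilA h2 (piCoreOf_le _ _) h3 (piCoreOf_pi _ _))))

theorem pcore_cent {X V : Subgroup G} (hX : Group.IsNilpotent X) {p r : ℕ} (hr : r ≠ p)
    (hV : V ≤ X) (h : IsPi {p} V) : piCoreOf {r} X ≤ 𝒞(V) :=
  nilpotent_cent hX (piCoreOf_le _ _) hV (piCoreOf_pi _ _) (h.compl_singleton_of_ne hr.symm)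

theorem gen_c (h : KW π A B) {r s : ℕ} (hr : piCoreOf {r} A ≠ ⊥) (hs : piCoreOf {s} B ≠ ⊥) :
    piCoreOf {r} A ⊔ piCoreOf {s} B = ⊤ := by
  by_contra hne
  rcases h.key (piCoreOf_le _ _) (le_norm_piCoreOf _ _) hr (piCoreOf_pi _ _) (piCoreOf_le _ _)
    (le_norm_piCoreOf _ _) hs (piCoreOf_pi _ _) hne with ⟨V, h1, h2, h3, h4⟩ | ⟨V, h1, h2, h3, h4⟩
  · exact h.key1 h1 h2 h3 (le_sup_left.trans h4) (le_sup_right.trans h4) (le_norm_piCoreOf _ _) hs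
  · exact h.symm.key1 h1 h2 h3 (le_sup_right.trans h4) (le_sup_left.trans h4)
      (le_norm_piCoreOf _ _) hr

theorem gen_b (h : KW π A B) {r q : ℕ} (hr : piCoreOf {r} A ≠ ⊥) {B₀ : Subgroup G} (b1 : B₀ ≤ B)
    (b2 : B ≤ 𝒩(B₀)) (b3 : B₀ ≠ ⊥) (b4 : IsPi {q} B₀) : piCoreOf {r} A ⊔ B₀ = ⊤ := by
  by_contra hne
  rcases h.key (piCoreOf_le _ _) (le_norm_piCoreOf _ _) hr (piCoreOf_pi _ _) b1 b2 b3 b4 hne with
    ⟨V, h1, h2, h3, h4⟩ | ⟨V, h1, h2, h3, h4⟩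
  · exact h.key1 h1 h2 h3 (le_sup_left.trans h4) (le_sup_right.trans h4) b2 b3
  · obtain ⟨s, hs, hsq, hd⟩ := h.symm.exists_prime q
    refine h.symm.norm_ne_top' h1 h2 (top_le_iff.1 ?_)
    rw [← h.gen_c hr (pcore_ne_bot h.nilB hs hd)]
    exact sup_le (le_sup_left.trans h4) (norm_of_cent (pcore_cent h.nilB hsq h2 h3))

theorem gen (h : KW π A B) {A₀ B₀ : Subgroup G} (a1 : A₀ ≤ A) (a2 : A ≤ 𝒩(A₀)) (a3 : A₀ ≠ ⊥)
    (b1 : B₀ ≤ B) (b2 : B ≤ 𝒩(B₀)) (b3 : B₀ ≠ ⊥) : A₀ ⊔ B₀ = ⊤ := by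
  obtain ⟨p, hp, hdp⟩ := exists_prime_dvd_card a3
  obtain ⟨q, hq, hdq⟩ := exists_prime_dvd_card b3
  have a3' := pcore_ne_bot (nilpotent_of_le h.nilA a1) hp hdp
  have b3' := pcore_ne_bot (nilpotent_of_le h.nilB b1) hq hdq
  have a1' := (piCoreOf_le {p} A₀).trans a1
  have b1' := (piCoreOf_le {q} B₀).trans b1
  have a2' := norm_piCoreOf {p} a2
  have b2' := norm_piCoreOf {q} b2
  rw [eq_top_iff]
  refine le_trans (le_of_eq (Eq.symm ?_)) (sup_le_sup (piCoreOf_le {p} A₀) (piCoreOf_le {q} B₀))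
  by_contra hne
  rcases h.key a1' a2' a3' (piCoreOf_pi _ _) b1' b2' b3' (piCoreOf_pi _ _) hne with
    ⟨V, h1, h2, h3, h4⟩ | ⟨V, h1, h2, h3, h4⟩
  · obtain ⟨s, hs, hsq, hd⟩ := h.exists_prime p
    refine h.norm_ne_top' h1 h2 (top_le_iff.1 ?_)
    rw [← h.gen_b (pcore_ne_bot h.nilA hs hd) b1' b2' b3' (piCoreOf_pi _ _)]
    exact sup_le (norm_of_cent (pcore_cent h.nilA hsq h2 h3)) (le_sup_right.trans h4)
  · obtain ⟨s, hs, hsq, hd⟩ := h.symm.exists_prime q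
    refine h.symm.norm_ne_top' h1 h2 (top_le_iff.1 ?_)
    rw [← h.symm.gen_b (pcore_ne_bot h.nilB hs hd) a1' a2' a3' (piCoreOf_pi _ _)]
    exact sup_le (norm_of_cent (pcore_cent h.nilB hsq h2 h3)) (le_sup_left.trans h4)

omit [Finite G] in
theorem norm_center (X : Subgroup G) : X ≤ 𝒩(X ⊓ 𝒞(X)) :=
  norm_inf le_normalizer (norm_cent le_normalizer)

omit [Finite G] in
theorem norm_zpowers {X : Subgroup G} {z : G} (hz : z ∈ 𝒞(X)) : X ≤ 𝒩(zpowers z) :=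
  norm_of_cent (cent_symm (zpowers_le.2 hz))

/-- a proper subgroup containing `Z(A)` contains no nontrivial element of `Z(B)` -/
theorem gen_center (h : KW π A B) {M : Subgroup G} (hM : M ≠ ⊤) (h1 : A ⊓ 𝒞(A) ≤ M) {w : G}
    (hw : w ∈ B ⊓ 𝒞(B)) (h2 : w ∈ M) : w = 1 := by
  by_contra hw1
  refine hM (top_le_iff.1 ?_)
  rw [← h.gen inf_le_left (norm_center A) h.center_ne_bot (zpowers_le.2 hw.1) (norm_zpowers hw.2)
    (by simpa using hw1)]
  exact sup_le h1 (zpowers_le.2 h2)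

theorem cent_center (h : KW π A B) {z : G} (hz : z ∈ A ⊓ 𝒞(A)) (hz1 : z ≠ 1) : 𝒞[z] ≤ A := by
  intro g hg
  obtain ⟨a, ha, b, hb, rfl⟩ := (h.prod.restrict_left (le_cent1_iff.2 hz.2) le_top).2.2 g hg
  have : b = 1 := by
    by_contra hb1
    exact hz1 (h.symm.gen_center (h.cent1_ne_top hb1) (inf_le_right.trans (cent_le_cent1 hb.1)) hz
      (mem_cent1_comm.1 hb.2))
  rwa [this, mul_one]

theorem exists_center (h : KW π A B) {r : ℕ} (hr : piCoreOf {r} A ≠ ⊥) :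
    ∃ z ∈ piCoreOf {r} A, z ∈ A ⊓ 𝒞(A) ∧ z ≠ 1 := by
  obtain ⟨z, hz, hz1⟩ := ne_bot_iff_exists.1
    (inf_center_ne_bot_of_nilpotent h.nilA (piCoreOf_le _ _) (le_norm_piCoreOf _ _) hr)
  exact ⟨z, hz.1, ⟨piCoreOf_le _ _ hz.1, hz.2⟩, hz1⟩

theorem pcore_eq {X E : Subgroup G} (hX : Group.IsNilpotent X) {ρ : Set ℕ} (h1 : E ≤ X)
    (h2 : piCoreOf ρ X ≤ E) : piCoreOf ρ E = piCoreOf ρ X :=
  le_antisymm (nilpotent_le_piCoreOf hX ((piCoreOf_le _ _).trans h1) (piCoreOf_pi _ _))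
    (piCoreOf_le_of_le _ h1 h2)

theorem norm_pcore (h : KW π A B) {r : ℕ} (hr : piCoreOf {r} A ≠ ⊥) :
    𝒩(piCoreOf {r} A) ≤ 𝒩(A) := by
  obtain ⟨z, hz, hz', hz1⟩ := h.exists_center hr
  have h1 := pcore_eq h.nilA ((cent_le_cent1 hz).trans (h.cent_center hz' hz1))
    (cent_symm (piCoreOf_cent_compl {r} A))
  have h2 := norm_sup le_rfl (h1 ▸ norm_piCoreOf {r}ᶜ (norm_cent (le_refl 𝒩(piCoreOf {r} A))))
  rwa [(nilpotent_isDp h.nilA {r}).1] at h2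

theorem inf_norm_ne_bot (h : KW π A B) : B ⊓ 𝒩(A) ≠ ⊥ := by
  intro e
  have h1 : 𝒩(A) ≤ A := by
    have := (h.prod.restrict_left le_normalizer le_top).sup_eq
    rw [e, sup_bot_eq] at this
    exact this.ge
  obtain ⟨N, hN, hH⟩ := H20.exists_normal_hall_compl_of_nil h.hall h.nilA fun p _ _ => by
    obtain ⟨r, hr, hrp, hd⟩ := h.exists_prime p
    exact ⟨r, hr, hrp, hd, (h.norm_pcore (pcore_ne_bot h.nilA hr hd)).trans h1⟩
  rcases h.simple N hN with rfl | rfl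
  · exact h.symm.ne_bot (h.piB.eq_bot (hH.compl_of_eq_bot.of_le le_top))
  · exact h.ne_bot (h.piA.eq_bot (hH.pi.of_le le_top))

theorem le_norm_of_isProd (h : KW π A B) {M : Subgroup G} (hM : M ≠ ⊤)
    (hp : IsProd (A ⊓ M) (B ⊓ M) M) (hZ : A ⊓ 𝒞(A) ≤ M) {r : ℕ} (hr : piCoreOf {r} A ≠ ⊥)
    (hr' : piCoreOf {r} A ≤ M) : M ≤ 𝒩(A) := by
  have hs := h.ind M hM hp
  have hA := Cfsg.IsPiHallOf.of_isProd (h.piA.inf_left _) (h.piB.inf_left _) hp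
  have hB := Cfsg.IsPiHallOf.of_isProd (h.piB.inf_left _) (h.piA.inf_left _).compl_compl hp.symm
  have h1 : piCoreOf πᶜ M = ⊥ := by
    by_contra hne
    have h2 : piCoreOf πᶜ M ≤ B := hB.piCoreOf_le.trans inf_le_left
    obtain ⟨w, hw, hw1⟩ := ne_bot_iff_exists.1 h.symm.center_ne_bot
    exact hw1 (h.gen_center (h.symm.norm_ne_top' hne h2) (hZ.trans (le_norm_piCoreOf _ _)) hw
      (cent_le_norm _ (cent_anti h2 hw.2)))
  have h2 : fittingOf M ≤ A := by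
    rw [← (nilpotent_isDp (fittingOf_nil M) π).1]
    exact sup_le ((piCoreOf_fittingOf_le _ _).trans (hA.piCoreOf_le.trans inf_le_left))
      ((piCoreOf_fittingOf_le _ _).trans (h1 ▸ bot_le))
  have h3 : A ⊓ 𝒞(A) ≤ fittingOf M :=
    (le_inf hZ (inf_le_right.trans (cent_anti h2))).trans (cent_fittingOf_le hs)
  obtain ⟨p, hp, hpr, hd⟩ := h.exists_prime r
  obtain ⟨z, hz, hz', hz1⟩ := h.exists_center (pcore_ne_bot h.nilA hp hd)
  have h4 : z ∈ piCoreOf {p} (fittingOf M) := zpowers_le.1 (nilpotent_le_piCoreOf (fittingOf_nil M)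
    (zpowers_le.2 (h3 hz')) ((piCoreOf_pi _ _).of_le (zpowers_le.2 hz)))
  have h5 := pcore_eq (E := M ⊓ 𝒞(piCoreOf {p} (fittingOf M))) (ρ := {r}) h.nilA
    ((inf_le_right.trans (cent_le_cent1 h4)).trans (h.cent_center hz' hz1))
    (le_inf hr' (pcore_cent h.nilA hpr.symm ((piCoreOf_le _ _).trans h2) (piCoreOf_pi _ _)))
  refine le_trans ?_ (h.norm_pcore hr)
  rw [← h5]
  exact norm_piCoreOf _ (norm_inf le_normalizer
    (norm_cent (norm_piCoreOf _ (le_norm_fittingOf M))))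

theorem mem_cent_of_conj (h : KW π A B) {x b : G} (hx : x ∈ A ⊓ 𝒩(B)) (hb : b ∈ B)
    (h1 : b⁻¹ * x * b ∈ A) : b ∈ 𝒞[x] := by
  have h2 := h.eq_one (mul_mem h1 (inv_mem hx.1)) (by
    have := mul_mem (inv_mem hb) (conj_mem_of_norm le_rfl hx.2 hb)
    simpa [mul_assoc] using this)
  rw [mem_cent1]
  rw [mul_inv_eq_one, mul_assoc, inv_mul_eq_iff_eq_mul] at h2
  exact h2.symm

theorem exists_prime_power {x : G} (hx : x ≠ 1) :
    ∃ p, ∃ y ∈ zpowers x, y ≠ 1 ∧ IsPi {p} (zpowers y) := by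
  obtain ⟨p, hp, hd⟩ := exists_prime_dvd_card (H := zpowers x) (by simpa using hx)
  obtain ⟨y, hy, e⟩ := exists_orderOf_eq_of_dvd_card hp hd
  exact ⟨p, y, hy, fun h => hp.ne_one (by rw [← e, h, orderOf_one]),
    isPi_of_card_eq_prime hp (by rw [Nat.card_zpowers, e])⟩

theorem cent_le_norm_left (h : KW π A B) {x : G} (hx : x ∈ A ⊓ 𝒩(B)) (hx1 : x ≠ 1) :
    𝒞[x] ≤ 𝒩(A) := by
  obtain ⟨p, y, hy, hy1, hp⟩ := exists_prime_power hx1
  have hy' : y ∈ A ⊓ 𝒩(B) := zpowers_le.2 hx hy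
  obtain ⟨r, hr, hrp, hd⟩ := h.exists_prime p
  refine le_trans ?_ (h.le_norm_of_isProd (h.cent1_ne_top hy1) (IsProd.symm ?_)
    (inf_le_right.trans (cent_le_cent1 hy'.1)) (pcore_ne_bot h.nilA hr hd) ?_)
  · rw [← cent_zpowers]
    exact cent_le_cent1 hy
  · refine ⟨inf_le_right, inf_le_right, fun g hg => ?_⟩
    obtain ⟨b, hb, a, ha, rfl⟩ := h.prod.symm.2.2 g (mem_top g)
    have h1 := h.mem_cent_of_conj hy' hb (by
      have e := mem_cent1.1 hg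
      have : b⁻¹ * y * b = a * y * a⁻¹ := by
        rw [eq_mul_inv_iff_mul_eq, mul_assoc, mul_assoc, ← e]; group
      rw [this]
      exact conj_mem_of_norm le_normalizer ha hy'.1)
    exact ⟨b, ⟨hb, h1⟩, a, ⟨ha, (Subgroup.mul_mem_cancel_left _ h1).1 hg⟩, rfl⟩
  · rw [← cent_zpowers]
    exact pcore_cent h.nilA hrp (zpowers_le.2 hy'.1) hp

theorem mem_norm_of_mem_cj (h : KW π A B) {x g : G} (hx : x ∈ A ⊓ 𝒩(B)) (hx1 : x ≠ 1)
    (hg : x ∈ cj g A) : g ∈ 𝒩(A) := by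
  obtain ⟨b, hb, a, ha, rfl⟩ := h.prod.symm.2.2 g (mem_top g)
  rw [cj_mul, cj_eq_of_mem ha, mem_cj] at hg
  exact mul_mem (h.cent_le_norm_left hx hx1 (h.mem_cent_of_conj hx hb hg)) (le_normalizer ha)

theorem center_not_mem (h : KW π A B) {w : G} (hw : w ∈ B ⊓ 𝒞(B)) (hw1 : w ≠ 1) : w ∉ 𝒩(A) :=
  fun h1 => hw1 (h.gen_center (h.norm_ne_top' h.ne_bot le_rfl) (norm_of_le inf_le_left) hw h1)

theorem le_of_le_norm (h : KW π A B) {D : Subgroup G} (h1 : D ≤ 𝒩(A)) (h2 : IsPi π D) : D ≤ A :=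
  h.hall.le_of_norm le_top h2 (Or.inl h1)

theorem frob (h : KW π A B) {x w : G} (hx : x ∈ A ⊓ 𝒩(B)) (hx1 : x ≠ 1) (hw : w ∈ B ⊓ 𝒞(B)) :
    ∃ z ∈ B ⊓ 𝒞(B), w * x = z * x * z⁻¹ := by
  let φ : ↥(B ⊓ 𝒞(B)) → ↥(B ⊓ 𝒞(B)) := fun z => ⟨z * (x * (z : G)⁻¹ * x⁻¹), mul_mem z.2
    (conj_mem_of_norm (norm_inf le_rfl (norm_cent le_rfl)) hx.2 (inv_mem z.2))⟩
  have hφ : Function.Injective φ := by
    intro z z' e
    have e' : (z : G) * (x * (z : G)⁻¹ * x⁻¹) = z' * (x * (z' : G)⁻¹ * x⁻¹) :=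
      congrArg Subtype.val e
    by_contra hne
    refine hx1 (h.eq_one hx.1 (h.symm.cent_center (mul_mem (inv_mem z'.2) z.2)
      (fun e => hne (Subtype.ext (inv_mul_eq_one.1 e).symm)) (mem_cent1.2 ?_)))
    calc x * ((z' : G)⁻¹ * z) = (z' : G)⁻¹ * (z' * (x * (z' : G)⁻¹ * x⁻¹)) * x * z := by group
      _ = (z' : G)⁻¹ * z * x := by rw [← e']; group
  obtain ⟨z, hz⟩ := Finite.injective_iff_surjective.1 hφ ⟨w, hw⟩
  refine ⟨z, z.2, ?_⟩
  rw [← show (z : G) * (x * (z : G)⁻¹ * x⁻¹) = w from congrArg Subtype.val hz]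
  group

omit [Finite G] in
theorem cj_cj_comm {w y : G} (hw : w ∈ 𝒞(B)) (hy : y ∈ B) {X : Subgroup G} (hX : y ∈ 𝒩(X)) :
    cj y (cj w X) = cj w X := by
  rw [cj_cj, hw y hy, cj_mul, cj_eq_of_mem_norm hX]

theorem claim (h : KW π A B) {p : ℕ} {D : Subgroup G} {w : G} (hD : D ≠ ⊥) (hp : IsPi {p} D)
    (h1 : D ≤ A) (h2 : D ≤ cj w A) (hw : w ∈ B ⊓ 𝒞(B)) (hw1 : w ≠ 1) (h3 : B ⊓ 𝒩(A) ≤ 𝒩(D)) :
    ∃ x ∈ A ⊓ 𝒩(B), x ≠ 1 ∧ ∃ b ∈ B ⊓ 𝒩(A), b * (w * x) ∈ 𝒞(D) := by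
  obtain ⟨r, hr, hrp, hd⟩ := h.exists_prime p
  have hR := (nilpotent_hall_piCoreOf h.nilA {r}).trans_sylow h.hall (h.piA r hr hd)
  have hRn := h.norm_pcore (pcore_ne_bot h.nilA hr hd)
  obtain ⟨n, hn, e⟩ := sylowOf_conj (hR.sub (pcore_cent h.nilA hrp h1 hp) le_top)
    ((hR.cj_of_mem (mem_top w)).sub (by
      rw [cj_piCoreOf]
      exact pcore_cent (isNilpotent_cj.2 h.nilA) hrp h2 hp) le_top)
  obtain ⟨y, hy, hy1⟩ := ne_bot_iff_exists.1 h.inf_norm_ne_bot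
  have hY : zpowers y ≤ B ⊓ 𝒩(A) := zpowers_le.2 hy
  have hN : IsPi π (𝒞(D) ⊓ 𝒩(A)) := by
    intro q hq hqd
    by_contra hqπ
    obtain ⟨u, hu, hu'⟩ := exists_orderOf_eq_of_dvd_card hq hqd
    have hB := Cfsg.IsPiHallOf.of_isProd (h.piB.inf_left 𝒩(A)) h.piA.compl_compl
      (h.prod.restrict_left le_normalizer le_top).symm
    obtain ⟨Q, hQ⟩ := exists_sylowOf q (B ⊓ 𝒩(A))
    obtain ⟨g, hg, hgu⟩ := sylowOf_subJ (hQ.trans_sylow hB hqπ) (zpowers_le.2 hu.2)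
      (isPi_of_card_eq_prime hq (by rw [Nat.card_zpowers, hu']))
    have h4 : g * u * g⁻¹ ∈ B ⊓ 𝒩(A) := hQ.le (hgu (conj_mem_cj.2 (mem_zpowers u)))
    obtain ⟨d, hd, hd1⟩ := ne_bot_iff_exists.1 hD
    have h5 := h.symm.cent_le_norm_left h4 (by
      rw [Ne, mul_inv_eq_one, mul_eq_left]
      rintro rfl
      exact hq.ne_one (by rw [← hu', orderOf_one]))
    rw [← cj_cent1] at h5
    have h6 := h.mem_norm_of_mem_cj (g := g * w)
      ⟨conj_mem_of_norm le_rfl hg (h1 hd), h5 (conj_mem_cj.2 (mem_cent1.2 (hu.1 d hd)))⟩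
      (by rwa [Ne, mul_inv_eq_one, mul_eq_left]) (by rw [cj_mul]; exact conj_mem_cj.2 (h2 hd))
    exact h.center_not_mem hw hw1 ((Subgroup.mul_mem_cancel_left _ hg).1 h6)
  obtain ⟨m, hm, hc⟩ := coprime_lift_cent (K := 𝒞(D)) (N := 𝒞(D) ⊓ 𝒩(A)) (A := zpowers y)
    (norm_cent (hY.trans h3)) (norm_inf (norm_cent (hY.trans h3)) (norm_of_le (hY.trans
      inf_le_right))) ((h.piB.of_le (hY.trans inf_le_left)).coprime' hN)
    (Or.inl (solvable_of_abelian inferInstance)) hn fun a ha => ⟨by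
      have := mul_mem (inv_mem hn) (conj_mem_of_norm (norm_cent h3) (hY ha) hn)
      rw [← mul_assoc, ← mul_assoc] at this
      exact this, hRn (mem_norm_iff_cj.2 (by
        have ha' := norm_le_norm_piCoreOf {r} A (hY ha).2
        rw [cj_mul, cj_mul, cj_mul, cj_eq_of_mem_norm (inv_mem ha'), e,
          cj_cj_comm hw.2 (hY ha).1 ha', ← e, cj_inv_cj]))⟩
  rw [cent_zpowers] at hc
  obtain ⟨b, hb, x, hx, e'⟩ := (h.prod.symm.restrict_left le_normalizer le_top).2.2 _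
    (h.symm.cent_le_norm_left hy hy1 hc)
  have h4 : w⁻¹ * b ∈ B ⊓ 𝒩(A) := by
    refine ⟨B.mul_mem (B.inv_mem hw.1) hb, ?_⟩
    have h5 : w⁻¹ * n ∈ 𝒩(A) := hRn (mem_norm_iff_cj.2 (by rw [cj_mul, e, cj_inv_cj]))
    have h6 := mul_mem (mul_mem h5 hm.1.2) (le_normalizer (A.inv_mem hx.1))
    rwa [mul_assoc w⁻¹, e', mul_assoc, mul_inv_cancel_right] at h6
  have h5 : w⁻¹ * b * (w * x) ∈ 𝒞(D) := by
    rw [← mul_assoc, mul_assoc w⁻¹, hw.2 b hb, inv_mul_cancel_left, ← e']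
    exact mul_mem hn hm.2
  refine ⟨x, hx, ?_, _, h4, h5⟩
  rintro rfl
  rw [mul_one] at h5
  exact hw1 (h.gen_center (h.norm_ne_top' hD h1) (norm_of_cent (inf_le_right.trans (cent_anti h1)))
    hw ((Subgroup.mul_mem_cancel_left _ (h3 h4)).1 (cent_le_norm _ h5)))

theorem false_of_le (h : KW π A B) (hle : Nat.card B ≤ Nat.card A) : False := by
  obtain ⟨w, hw, hw1⟩ := ne_bot_iff_exists.1 h.symm.center_ne_bot
  have hI : A ⊓ cj w A ≠ ⊥ := by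
    intro e
    have h1 := card_mul_le (le_top : A ≤ ⊤) (le_top : cj w A ≤ ⊤)
    have h2 := h.prod.card_mul
    rw [h.inf_eq_bot, Subgroup.card_bot, mul_one] at h2
    rw [e, Subgroup.card_bot, mul_one, h2, card_cj] at h1
    have h3 := le_antisymm hle (Nat.le_of_mul_le_mul_left h1 (card_pos' A))
    have h4 := h.piA.coprime h.piB
    rw [h3, Nat.coprime_self] at h4
    exact h.ne_bot (Subgroup.eq_bot_of_card_eq _ h4)
  obtain ⟨p, hp, hd⟩ := exists_prime_dvd_card hI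
  have hD := pcore_ne_bot (nilpotent_of_le h.nilA inf_le_left) hp hd
  set D := piCoreOf {p} (A ⊓ cj w A)
  have d1 : D ≤ A := (piCoreOf_le _ _).trans inf_le_left
  have d3 : B ⊓ 𝒩(A) ≤ 𝒩(D) := norm_piCoreOf _ (norm_inf inf_le_right
    (le_norm_of_cj fun y hy => cj_cj_comm hw.2 hy.1 hy.2))
  obtain ⟨x, hx, hx1, b, hb, hc⟩ := h.claim hD (piCoreOf_pi _ _) d1
    ((piCoreOf_le _ _).trans inf_le_right) hw hw1 d3
  obtain ⟨z, hz, e⟩ := h.frob hx hx1 hw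
  have hz1 : z⁻¹ ≠ 1 := by
    rw [Ne, inv_eq_one]
    rintro rfl
    exact hw1 (by simpa using e)
  have hcomm : Commute b x := by
    have := cent_of_norm_of_disjoint (H := A ⊓ 𝒩(B)) (K := B ⊓ 𝒩(A))
      (norm_inf inf_le_right (norm_of_le (norm_of_le inf_le_left)))
      (norm_inf inf_le_right (norm_of_le (norm_of_le inf_le_left)))
      (eq_bot_iff.2 ((inf_le_inf inf_le_left inf_le_left).trans h.inf_eq_bot.le))
    exact this hx b hb
  have hx0 : x ^ orderOf b ∈ A ⊓ 𝒩(B) := pow_mem hx _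
  have hx01 : x ^ orderOf b ≠ 1 := fun e => hx1 (orderOf_eq_one_iff.1
    (IsPiNat.eq_one (h.piA.elt hx.1) (IsPiNat.of_dvd (h.piB.elt hb.1)
      (orderOf_dvd_of_pow_eq_one e))))
  have h1 : x ^ orderOf b ∈ 𝒞(cj z⁻¹ D) := by
    rw [← cj_centralizer, mem_cj, inv_inv]
    have h2 := pow_mem hc (orderOf b)
    have h3 : b * (w * x) = z * (b * x) * z⁻¹ := by
      rw [e, ← mul_assoc, ← mul_assoc, hz.2 b hb.1, mul_assoc z]
    rwa [h3, conj_pow, hcomm.mul_pow, pow_orderOf_eq_one, one_mul] at h2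
  have e1 : cj z⁻¹ D ≠ ⊥ := fun e => hD (cj_injective z⁻¹ (e.trans (cj_bot _).symm))
  have e2 : cj z⁻¹ D ≤ A := h.le_of_le_norm
    ((le_cent1_iff.2 h1).trans (h.cent_le_norm_left hx0 hx01)) ((h.piA.of_le d1).cj _)
  have e3 : B ⊓ 𝒩(A) ≤ 𝒩(cj z⁻¹ D) :=
    le_norm_of_cj fun y hy => cj_cj_comm (inv_mem hz.2) hy.1 (d3 hy)
  obtain ⟨x', hx', -, b', hb', hc'⟩ := h.claim e1 ((piCoreOf_pi _ _).cj _) e2 (cj_mono _ d1)
    (inv_mem hz) hz1 e3
  have hU : IsPi π (𝒩(cj z⁻¹ D) ⊓ (B ⊓ 𝒞(B) ⊔ A ⊓ 𝒩(B))) := by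
    refine isPi_of_elt fun u hu => ?_
    obtain ⟨v, hv, a, ha, rfl⟩ := (mem_sup_of_norm_left (inf_le_right.trans
      (norm_inf le_rfl (norm_cent le_rfl)))).1 hu.2
    by_cases ha1 : a = 1
    · subst ha1
      rw [h.gen_center (h.norm_ne_top' e1 e2) (norm_of_cent (inf_le_right.trans (cent_anti e2))) hv
        (by simpa using hu.1)]
      exact h.piA.elt (by simp)
    · obtain ⟨t, -, ht⟩ := h.frob ha ha1 hv
      rw [ht]
      exact isPiElt_conj.2 (h.piA.elt ha.1)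
  obtain ⟨g, hg⟩ := S0581.result A _ h.nilA (by simpa using h.hall.coprime) fun q hq hd =>
    h.hall.dvd_card hq (hU q hq hd) (hd.trans (card_dvd_of_le le_top))
  rw [← cj_eq_smul] at hg
  rw [cj_eq_of_mem_norm (h.mem_norm_of_mem_cj hx0 hx01
    (hg ⟨cent_le_norm _ h1, mem_sup_right hx0⟩))] at hg
  have h2 : z⁻¹ * x' ∈ A := hg ⟨(Subgroup.mul_mem_cancel_left _ (e3 hb')).1 (cent_le_norm _ hc'),
    mul_mem (mem_sup_left (inv_mem hz)) (mem_sup_right hx')⟩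
  exact hz1 (h.eq_one ((Subgroup.mul_mem_cancel_right _ hx'.1).1 h2) (inv_mem hz.1))

theorem false (h : KW π A B) : False :=
  (le_total (Nat.card B) (Nat.card A)).elim h.false_of_le h.symm.false_of_le

end KW

theorem nilpotent_subgroupOf {A : Subgroup G} (hA : Group.IsNilpotent A) (M : Subgroup G) :
    Group.IsNilpotent (A.subgroupOf M) := by
  rw [← nilpotent_map_iff M.subtype_injective, subgroupOf_map_subtype]
  exact nilpotent_of_le hA inf_le_left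

theorem kegel_wielandt_aux (n : ℕ) : ∀ (G : Type u) [Group G] [Finite G], Nat.card G = n →
    ∀ A B : Subgroup G, Group.IsNilpotent A → Group.IsNilpotent B → IsProd A B ⊤ →
    Group.IsSolvable G := by
  induction n using Nat.strong_induction_on with
  | _ n ih =>
  intro G _ _ hn A B hA hB hp
  by_contra hs
  have ind : ∀ M : Subgroup G, M ≠ ⊤ → IsProd (A ⊓ M) (B ⊓ M) M → Group.IsSolvable M :=
    fun M hM h => ih _ (hn ▸ card_lt_of_ne_top hM) M rfl _ _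
      (nilpotent_subgroupOf (nilpotent_of_le hA inf_le_left) M)
      (nilpotent_subgroupOf (nilpotent_of_le hB inf_le_left) M) (H20.isProd_subgroupOf h)
  have quo : ∀ (N : Subgroup G) [N.Normal], N ≠ ⊥ → Group.IsSolvable (G ⧸ N) := fun N _ hN =>
    ih _ (hn ▸ card_quotient_lt hN) (G ⧸ N) rfl _ _ (nilpotent_map hA _) (nilpotent_map hB _)
      (H20.isProd_map_top hp _ (QuotientGroup.mk'_surjective N))
  have nos : ∀ N : Subgroup G, N.Normal → Group.IsSolvable N → N = ⊥ := fun N _ hN => by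
    by_contra hne
    haveI := quo N hne
    exact hs (Group.isSolvable_of_ker_le_range N.subtype (QuotientGroup.mk' N) (by simp))
  have hπ : IsPi (primesOf A)ᶜ B := by
    rintro p hp' hd ⟨-, hdA⟩
    obtain ⟨R, -, hR⟩ := H20.exists_sylow_isProd_pcore p hp hA hB
    have h1 := fun g => H20.perm_cj_of_norm hp (le_norm_piCoreOf {p} A) (le_norm_piCoreOf {p} B)
      (H20.isProd_sup hR) (mem_top g)
    have h2 : piCoreOf {p} (⊤ : Subgroup G) = ⊥ := nos _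
      (normal_iff_top_le_norm.2 (le_norm_piCoreOf _ _))
      (solvable_of_nilpotent (piCoreOf_pi _ _).nilpotent)
    have h3 : H20.ncl ⊤ (piCoreOf {p} B) ≤ 𝒞(piCoreOf {p} A) := H20.ncl_le_iff.2 fun g _ => by
      have := H20.commutator_le_pcore_of_perm (piCoreOf_pi {p} A) ((piCoreOf_pi {p} B).cj g) ⊤
        le_top le_top fun k _ => by rw [cj_cj]; exact h1 _
      rw [h2, le_bot_iff, H49.commutator_eq_bot_iff] at this
      exact cent_symm this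
    haveI := H20.ncl_top_normal (piCoreOf {p} B)
    set N := H20.ncl ⊤ (piCoreOf {p} B)
    have hC : (𝒞(N)).Normal := inferInstance
    have h4 : N ⊓ 𝒞(N) = ⊥ := nos _ inferInstance (solvable_of_abelian
      (abelian_iff.2 (inf_le_right.trans (cent_anti inf_le_left))))
    haveI := quo N (ne_bot_mono (H20.le_ncl _ _) (KW.pcore_ne_bot hB hp' hd))
    have h5 : 𝒞(N) = ⊥ := nos _ hC (Group.isSolvable_of_isSolvable_injective
      (f := (QuotientGroup.mk' N).comp (𝒞(N)).subtype) (by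
        rw [← MonoidHom.ker_eq_bot_iff, eq_bot_iff]
        intro x hx
        have : (x : G) ∈ N ⊓ 𝒞(N) := ⟨(QuotientGroup.eq_one_iff _).1 hx, x.2⟩
        rw [h4] at this
        exact Subtype.ext this))
    exact KW.pcore_ne_bot hA hp' hdA (le_bot_iff.1 (h5 ▸ cent_symm h3))
  have hA' := Cfsg.IsPiHallOf.of_isProd (isPi_primesOf A) hπ hp
  have hB' := Cfsg.IsPiHallOf.of_isProd hπ (isPi_primesOf A).compl_compl hp.symm
  refine KW.false (π := primesOf A) ⟨fun N hN => ?_, hA, hB, isPi_primesOf A, hπ, hp, ind,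
    fun h => hs (Group.isSolvable_of_surjective (f := (⊤ : Subgroup G).subtype)
      fun x => ⟨⟨x, mem_top x⟩, rfl⟩)⟩
  by_contra hc
  push Not at hc
  have hn' := normal_iff_top_le_norm.1 hN
  exact hc.1 (nos N hN (ind N hc.2
    ((hA'.inf_normal le_top hn').isProd (hB'.inf_normal le_top hn'))))

/-- The theorem of Kegel and Wielandt. -/
theorem kegel_wielandt {A B : Subgroup G} (hA : Group.IsNilpotent A) (hB : Group.IsNilpotent B)
    (h : IsProd A B ⊤) : Group.IsSolvable G := kegel_wielandt_aux _ G rfl A B hA hB h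

theorem kegel_wielandt' {A B M : Subgroup G} (hA : Group.IsNilpotent A) (hB : Group.IsNilpotent B)
    (h : IsProd A B M) : Group.IsSolvable M :=
  kegel_wielandt (nilpotent_subgroupOf hA M) (nilpotent_subgroupOf hB M) (H20.isProd_subgroupOf h)

end Cfsg.Agent.H19
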