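import Mathlib.Algebra.Lie.Basic
import Mathlib.Algebra.DirectSum.Basic
import Cfsg.Agent.H83.Comm

/-! The Lie ring associated with the lower central series of a group. -/

set_option autoImplicit false

namespace Cfsg.Agent.H19

open scoped commutatorElement DirectSum

universe u

variable (G : Type u) [Group G]

/-- The lower central series, indexed from `0`. -/
abbrev gam (i : ℕ) : Subgroup G := (⊤ : Subgroup G).lowerCentralSeries i

variable {G}

theorem comm_mem_gam {i j : ℕ} {x y : G} (hx : x ∈ gam G i) (hy : y ∈ gam G j) :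
    ⁅x, y⁆ ∈ gam G (i + j + 1) :=
  H83.commutator_lcs_lcs_le ⊤ i j (Subgroup.commutator_mem_commutator hx hy)

theorem comm_mem_gam_succ {i : ℕ} {x : G} (hx : x ∈ gam G i) (y : G) : ⁅x, y⁆ ∈ gam G (i + 1) :=
  Subgroup.commutator_mem_commutator hx (Subgroup.mem_top y)

theorem gam_succ_le (i : ℕ) : gam G (i + 1) ≤ gam G i :=
  Subgroup.lowerCentralSeries_antitone _ (Nat.le_succ i)

theorem map_mem_gam {H : Type*} [Group H] (f : G →* H) {i : ℕ} {x : G} (hx : x ∈ gam G i) :
    f x ∈ gam H i := by
  have h1 : f x ∈ (gam G i).map f := ⟨x, hx, rfl⟩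
  rw [Subgroup.map_lowerCentralSeries] at h1
  exact Subgroup.lowerCentralSeries_mono i le_top h1

variable (G)

/-- The factors of the lower central series. -/
def LQ (i : ℕ) : Type u := Additive (gam G i ⧸ (gam G (i + 1)).subgroupOf (gam G i))

instance instAddCommGroupLQ (i : ℕ) : AddCommGroup (LQ G i) :=
  { (inferInstance : AddGroup (Additive (gam G i ⧸ (gam G (i + 1)).subgroupOf (gam G i)))) with
    add_comm := by
      intro a b
      obtain ⟨a, rfl⟩ := QuotientGroup.mk_surjective (Additive.toMul a) |>.imp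
        fun x (h : _ = Additive.toMul a) => congrArg Additive.ofMul h
      obtain ⟨b, rfl⟩ := QuotientGroup.mk_surjective (Additive.toMul b) |>.imp
        fun x (h : _ = Additive.toMul b) => congrArg Additive.ofMul h
      change Additive.ofMul (QuotientGroup.mk (a * b)) = Additive.ofMul (QuotientGroup.mk (b * a))
      congr 1
      rw [QuotientGroup.eq, Subgroup.mem_subgroupOf]
      have := comm_mem_gam_succ ((gam G i).inv_mem b.2) (a : G)⁻¹
      simpa [commutatorElement_def, mul_assoc] using this }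

/-- The associated graded Lie ring. -/
def AL : Type u := ⨁ i, LQ G i

instance instAddCommGroupAL : AddCommGroup (AL G) := inferInstanceAs (AddCommGroup (⨁ i, LQ G i))

variable {G}

/-- The class of an element of `gam G i`. -/
def lqMk {i : ℕ} (x : gam G i) : LQ G i := Additive.ofMul (QuotientGroup.mk x)

open Classical in
/-- The class of `x` in degree `i`. -/
noncomputable def cls (i : ℕ) (x : G) : AL G :=
  if h : x ∈ gam G i then DirectSum.of (LQ G) i (lqMk ⟨x, h⟩) else 0

theorem cls_of_mem {i : ℕ} {x : G} (h : x ∈ gam G i) :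
    cls i x = DirectSum.of (LQ G) i (lqMk ⟨x, h⟩) := dif_pos h

theorem cls_mul {i : ℕ} {x y : G} (hx : x ∈ gam G i) (hy : y ∈ gam G i) :
    cls i (x * y) = cls i x + cls i y := by
  rw [cls_of_mem hx, cls_of_mem hy, cls_of_mem (mul_mem hx hy)]
  exact (DirectSum.of (LQ G) i).map_add (lqMk ⟨x, hx⟩) (lqMk ⟨y, hy⟩)

theorem cls_eq_zero_iff {i : ℕ} {x : G} (hx : x ∈ gam G i) : cls i x = 0 ↔ x ∈ gam G (i + 1) := by
  rw [cls_of_mem hx]
  have h1 : (DirectSum.of (LQ G) i (lqMk ⟨x, hx⟩) : ⨁ i, LQ G i) = 0 ↔ lqMk ⟨x, hx⟩ = 0 :=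
    map_eq_zero_iff _ (DirectSum.of_injective i)
  refine h1.trans ?_
  exact (QuotientGroup.eq_one_iff (N := (gam G (i + 1)).subgroupOf (gam G i)) (⟨x, hx⟩ : gam G i))

theorem cls_one (i : ℕ) : cls i (1 : G) = 0 := (cls_eq_zero_iff (one_mem _)).mpr (one_mem _)

theorem cls_inv {i : ℕ} {x : G} (hx : x ∈ gam G i) : cls i x⁻¹ = -cls i x := by
  rw [eq_neg_iff_add_eq_zero, ← cls_mul (inv_mem hx) hx, inv_mul_cancel, cls_one]

theorem cls_pow {i : ℕ} {x : G} (hx : x ∈ gam G i) (n : ℕ) : cls i (x ^ n) = n • cls i x := by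
  induction n with
  | zero => rw [pow_zero, cls_one, zero_nsmul]
  | succ n ih => rw [pow_succ, cls_mul (pow_mem hx n) hx, ih, succ_nsmul]

theorem cls_conj {i : ℕ} {x : G} (hx : x ∈ gam G i) (y : G) : cls i (y * x * y⁻¹) = cls i x := by
  have h1 : y * x * y⁻¹ = ⁅x, y⁆⁻¹ * x := by simp [commutatorElement_def, mul_assoc]
  have h2 := inv_mem (comm_mem_gam_succ hx y)
  rw [h1, cls_mul (gam_succ_le i h2) hx, (cls_eq_zero_iff (gam_succ_le i h2)).mpr h2, zero_add]

theorem AL.induction_on {P : AL G → Prop} (v : AL G) (h0 : P 0)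
    (h1 : ∀ i, ∀ x ∈ gam G i, P (cls i x)) (h2 : ∀ a b, P a → P b → P (a + b)) : P v := by
  refine DirectSum.induction_on (motive := P) v h0 (fun i a => ?_) h2
  obtain ⟨x, rfl⟩ := QuotientGroup.mk_surjective (Additive.toMul a) |>.imp
    fun x (h : _ = Additive.toMul a) => congrArg Additive.ofMul h
  have := h1 i x x.2
  rwa [cls_of_mem x.2] at this

theorem AL.ext {M : Type*} [AddCommGroup M] {f g : AL G →+ M}
    (h : ∀ i, ∀ x ∈ gam G i, f (cls i x) = g (cls i x)) : f = g := by
  ext v
  induction v using AL.induction_on with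
  | h0 => rw [map_zero, map_zero]
  | h1 i x hx => exact h i x hx
  | h2 a b ha hb => rw [map_add, map_add, ha, hb]

/-- The universal property of `AL G` as an abelian group. -/
def AL.lift {M : Type*} [AddCommGroup M] (f : ℕ → G → M)
    (h1 : ∀ i, ∀ x ∈ gam G i, ∀ y ∈ gam G i, f i (x * y) = f i x + f i y)
    (h2 : ∀ i, ∀ x ∈ gam G (i + 1), f i x = 0) : AL G →+ M :=
  DirectSum.toAddMonoid fun i => MonoidHom.toAdditiveLeft
    (QuotientGroup.lift ((gam G (i + 1)).subgroupOf (gam G i))
      (MonoidHom.mk' (fun x : gam G i => Multiplicative.ofAdd (f i x))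
        fun x y => congrArg Multiplicative.ofAdd (h1 i x x.2 y y.2))
      fun x hx => congrArg Multiplicative.ofAdd (h2 i x hx))

theorem AL.lift_cls {M : Type*} [AddCommGroup M] (f : ℕ → G → M)
    (h1 : ∀ i, ∀ x ∈ gam G i, ∀ y ∈ gam G i, f i (x * y) = f i x + f i y)
    (h2 : ∀ i, ∀ x ∈ gam G (i + 1), f i x = 0) {i : ℕ} {x : G} (hx : x ∈ gam G i) :
    AL.lift f h1 h2 (cls i x) = f i x := by
  rw [cls_of_mem hx]
  exact DirectSum.toAddMonoid_of _ _ _

open Classical in
/-- The bracket with a homogeneous element. -/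
noncomputable def AL.brL (i : ℕ) (x : G) : AL G →+ AL G :=
  if hx : x ∈ gam G i then
    AL.lift (fun j y => cls (i + j + 1) ⁅x, y⁆)
      (fun j y hy z hz => by
        rw [commutatorElement_mul_right_eq_mul_conj, mul_assoc, mul_assoc, ← mul_assoc y,
          cls_mul (comm_mem_gam hx hy)
            ((inferInstance : (gam G _).Normal).conj_mem _ (comm_mem_gam hx hz) y),
          cls_conj (comm_mem_gam hx hz)])
      (fun j y hy => (cls_eq_zero_iff (comm_mem_gam hx (gam_succ_le j hy))).mpr
        (comm_mem_gam (j := j + 1) hx hy))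
  else 0

theorem AL.brL_cls {i j : ℕ} {x y : G} (hx : x ∈ gam G i) (hy : y ∈ gam G j) :
    AL.brL i x (cls j y) = cls (i + j + 1) ⁅x, y⁆ := by
  rw [AL.brL, dif_pos hx, AL.lift_cls _ _ _ hy]

/-- The bracket as a biadditive map. -/
noncomputable def AL.br : AL G →+ AL G →+ AL G :=
  AL.lift AL.brL
    (fun i x hx y hy => AL.ext fun j z hz => by
      rw [AddMonoidHom.add_apply, AL.brL_cls (mul_mem hx hy) hz, AL.brL_cls hx hz,
        AL.brL_cls hy hz, commutatorElement_mul_left_eq_conj_mul,
        cls_mul ((inferInstance : (gam G _).Normal).conj_mem _ (comm_mem_gam hy hz) x)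
          (comm_mem_gam hx hz), cls_conj (comm_mem_gam hy hz), add_comm])
    (fun i x hx => AL.ext fun j z hz => by
      rw [AL.brL_cls (gam_succ_le i hx) hz, AddMonoidHom.zero_apply,
        cls_eq_zero_iff (comm_mem_gam (gam_succ_le i hx) hz)]
      have := comm_mem_gam hx hz
      rwa [add_right_comm i 1 j] at this)

theorem AL.br_cls {i j : ℕ} {x y : G} (hx : x ∈ gam G i) (hy : y ∈ gam G j) :
    AL.br (cls i x) (cls j y) = cls (i + j + 1) ⁅x, y⁆ := by
  rw [AL.br, AL.lift_cls _ _ _ hx, AL.brL_cls hx hy]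

theorem AL.br_skew (a b : AL G) : AL.br a b + AL.br b a = 0 := by
  induction a using AL.induction_on with
  | h0 => simp
  | h2 a a' h h' =>
    rw [map_add, map_add, AddMonoidHom.add_apply, add_add_add_comm, h, h', add_zero]
  | h1 i x hx =>
    induction b using AL.induction_on with
    | h0 => simp
    | h2 a a' h h' =>
      rw [map_add, map_add, AddMonoidHom.add_apply, add_add_add_comm, h, h', add_zero]
    | h1 j y hy =>
      rw [AL.br_cls hx hy, AL.br_cls hy hx, add_comm j i, ← commutatorElement_inv x y,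
        cls_inv (comm_mem_gam hx hy), add_neg_cancel]

theorem AL.br_jacobi (a b c : AL G) :
    AL.br (AL.br a b) c + AL.br (AL.br b c) a + AL.br (AL.br c a) b = 0 := by
  induction a using AL.induction_on with
  | h0 => simp
  | h2 a a' h h' =>
    simp only [map_add, AddMonoidHom.add_apply]
    rw [← add_zero (0 : AL G)]
    nth_rw 1 [← h]
    rw [← h']
    abel
  | h1 i x hx =>
    induction b using AL.induction_on with
    | h0 => simp
    | h2 a a' h h' =>
      simp only [map_add, AddMonoidHom.add_apply]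
      rw [← add_zero (0 : AL G)]
      nth_rw 1 [← h]
      rw [← h']
      abel
    | h1 j y hy =>
      induction c using AL.induction_on with
      | h0 => simp
      | h2 a a' h h' =>
        simp only [map_add, AddMonoidHom.add_apply]
        rw [← add_zero (0 : AL G)]
        nth_rw 1 [← h]
        rw [← h']
        abel
      | h1 k z hz =>
        have hn : ∀ i, (gam G i).Normal := fun _ => inferInstance
        have h1 := comm_mem_gam (comm_mem_gam hx hy) ((hn _).conj_mem z hz y)
        have h2 := comm_mem_gam (comm_mem_gam hy hz) ((hn _).conj_mem x hx z)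
        have h3 := comm_mem_gam (comm_mem_gam hz hx) ((hn _).conj_mem y hy x)
        have e2 : j + k + 1 + i + 1 = i + j + 1 + k + 1 := by omega
        have e3 : k + i + 1 + j + 1 = i + j + 1 + k + 1 := by omega
        rw [AL.br_cls hx hy, AL.br_cls hy hz, AL.br_cls hz hx]
        conv_lhs => rw [← cls_conj hz y, ← cls_conj hx z, ← cls_conj hy x]
        rw [AL.br_cls (comm_mem_gam hx hy) ((hn _).conj_mem z hz y),
          AL.br_cls (comm_mem_gam hy hz) ((hn _).conj_mem x hx z),
          AL.br_cls (comm_mem_gam hz hx) ((hn _).conj_mem y hy x)]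
        rw [e2] at h2 ⊢
        rw [e3] at h3 ⊢
        rw [← cls_mul h1 h2, ← cls_mul (mul_mem h1 h2) h3,
          commutatorElement_commutatorElement_conj_mul, cls_one]

noncomputable instance instLieRingAL : LieRing (AL G) where
  bracket a b := AL.br a b
  add_lie a b c := by rw [map_add, AddMonoidHom.add_apply]
  lie_add a b c := map_add _ _ _
  lie_self a := by
    induction a using AL.induction_on with
    | h0 => simp
    | h1 i x hx => rw [AL.br_cls hx hx, commutatorElement_self, cls_one]
    | h2 a b ha hb =>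
      simp only [map_add, AddMonoidHom.add_apply]
      rw [ha, hb, zero_add, add_zero, AL.br_skew]
  leibniz_lie a b c := by
    have h1 := AL.br_jacobi a b c
    have h2 := AL.br_skew a (AL.br b c)
    have h3 := AL.br_skew b (AL.br a c)
    have h4 : AL.br c a = -AL.br a c := eq_neg_of_add_eq_zero_left (AL.br_skew c a)
    rw [h4, map_neg, AddMonoidHom.neg_apply] at h1
    rw [eq_neg_of_add_eq_zero_left h2, eq_neg_of_add_eq_zero_left h3,
      eq_neg_of_add_eq_zero_left (a := AL.br (AL.br a b) c) (by rw [← add_assoc]; exact h1)]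
    abel

theorem AL.lie_cls {i j : ℕ} {x y : G} (hx : x ∈ gam G i) (hy : y ∈ gam G j) :
    ⁅cls i x, cls j y⁆ = cls (i + j + 1) ⁅x, y⁆ := AL.br_cls hx hy

/-- The map induced by an endomorphism. -/
noncomputable def AL.map (f : G →* G) : AL G →+ AL G :=
  AL.lift (fun i x => cls i (f x))
    (fun i x hx y hy => by rw [map_mul, cls_mul (map_mem_gam f hx) (map_mem_gam f hy)])
    (fun i x hx => (cls_eq_zero_iff (map_mem_gam f (gam_succ_le i hx))).mpr (map_mem_gam f hx))

theorem AL.map_cls (f : G →* G) {i : ℕ} {x : G} (hx : x ∈ gam G i) :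
    AL.map f (cls i x) = cls i (f x) := AL.lift_cls _ _ _ hx

theorem AL.map_lie (f : G →* G) (a b : AL G) : AL.map f ⁅a, b⁆ = ⁅AL.map f a, AL.map f b⁆ := by
  induction a using AL.induction_on with
  | h0 => simp
  | h2 a a' h h' => rw [add_lie, map_add, map_add, add_lie, h, h']
  | h1 i x hx =>
    induction b using AL.induction_on with
    | h0 => simp
    | h2 a a' h h' => rw [lie_add, map_add, map_add, lie_add, h, h']
    | h1 j y hy =>
      rw [AL.lie_cls hx hy, AL.map_cls f hx, AL.map_cls f hy, AL.map_cls f (comm_mem_gam hx hy),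
        AL.lie_cls (map_mem_gam f hx) (map_mem_gam f hy), map_commutatorElement]

end Cfsg.Agent.H19
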