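import Cfsg.Agent.H49.Core
import Cfsg.Agent.H49.Hall
import Cfsg.Agent.H49.Elem
import Cfsg.Agent.H49.Quot

/-! Groups whose abelian `p`-subgroups of equal order are conjugate: local facts. -/

set_option autoImplicit false
set_option linter.unusedSectionVars false

namespace Cfsg.Agent.H19

open Subgroup Cfsg.Agent.H49

universe u

/-- abelian `p`-subgroups of equal order are conjugate -/
def AP (p : ℕ) (G : Type*) [Group G] : Prop :=
  ∀ H K : Subgroup G, IsPGroup p H → IsPGroup p K → IsMulCommutative H → IsMulCommutative K →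
    Nat.card H = Nat.card K → ∃ g : G, cj g H = K

variable {G : Type u} [Group G] [Finite G] {p : ℕ}

theorem AP.elem (h : AP p G) {n : ℕ} {X Y H K : Subgroup G} (hX : IsElem p n X H)
    (hY : IsElem p n Y K) : ∃ g : G, cj g X = Y :=
  h X Y hX.pgroup hY.pgroup hX.abelian hY.abelian (hX.card.trans hY.card.symm)

/-- Burnside's fusion lemma for an abelian Sylow subgroup. -/
theorem burnside_ab {P X Y : Subgroup G} (hP : IsSylowOf p P ⊤) (hab : IsMulCommutative P)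
    (hX : X ≤ P) (hY : Y ≤ P) {g : G} (h : cj g X = Y) : ∃ n ∈ 𝒩(P), cj n X = Y := by
  have h1 : P ≤ 𝒞(Y) := le_cent_of_abelian hab le_rfl hY
  have h2 : cj g P ≤ 𝒞(Y) := by
    rw [← h, ← cj_centralizer]
    exact cj_mono g (le_cent_of_abelian hab le_rfl hX)
  have h3 : IsSylowOf p (cj g P) ⊤ := hP.cj_of_mem (mem_top g)
  obtain ⟨c, hc, hcP⟩ := sylowOf_conj (h3.sub h2 le_top) (hP.sub h1 le_top)
  refine ⟨c * g, mem_norm_iff_cj.2 (by rw [cj_mul, hcP]), ?_⟩
  rw [cj_mul, h, cj_eq_of_mem_cent hc]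

theorem AP.norm (h : AP p G) {P : Subgroup G} (hP : IsSylowOf p P ⊤) (hab : IsMulCommutative P)
    {n : ℕ} {X Y : Subgroup G} (hX : IsElem p n X P) (hY : IsElem p n Y P) :
    ∃ g ∈ 𝒩(P), cj g X = Y := by
  obtain ⟨g, hg⟩ := h.elem hX hY
  exact burnside_ab hP hab hX.le hY.le hg

theorem isElem_two_of_indep (hp : p.Prime) {P : Subgroup G} (hP : IsElementaryAbelian p P)
    {u v : G} (hu : u ∈ P) (hv : v ∈ P) (hu1 : u ≠ 1) (hvu : v ∉ zpowers u) :
    IsElem p 2 (zpowers u ⊔ zpowers v) P := by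
  have hv1 : v ≠ 1 := fun h => hvu (h ▸ one_mem _)
  have h1 := isElem_zpowers' hp hu (hP.2 u hu) hu1
  have h2 := isElem_zpowers' hp hv (hP.2 v hv) hv1
  refine h1.sup_of_cent h2 (le_cent_of_abelian hP.1 h1.le h2.le) (h1.inf_eq_bot h2 hp ?_)
  intro h
  exact hvu (h ▸ mem_zpowers v)

/-- A normal subgroup of `N(P)` that moves some line of `P` is irreducible on `P`. -/
theorem AP.irred (h : AP p G) (hp : p.Prime) {P A : Subgroup G} (hP : IsSylowOf p P ⊤)
    (hel : IsElementaryAbelian p P) (hNA : 𝒩(P) ≤ 𝒩(A))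
    (hA : ∃ X, IsElem p 1 X P ∧ ¬ A ≤ 𝒩(X)) {U : Subgroup G} (hU : U ≤ P) (hAU : A ≤ 𝒩(U)) :
    U = ⊥ ∨ U = P := by
  classical
  by_cases hU0 : U = ⊥
  · exact Or.inl hU0
  right
  have hex : ∃ k, ∃ W : Subgroup G, W ≤ P ∧ A ≤ 𝒩(W) ∧ W ≠ ⊥ ∧ Nat.card W = k :=
    ⟨_, U, hU, hAU, hU0, rfl⟩
  obtain ⟨W, hWP, hAW, hW0, hWk⟩ := Nat.find_spec hex
  have hmin : ∀ V : Subgroup G, V ≤ P → A ≤ 𝒩(V) → V ≠ ⊥ → Nat.card W ≤ Nat.card V :=
    fun V h1 h2 h3 => hWk ▸ Nat.find_min' hex ⟨V, h1, h2, h3, rfl⟩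
  have hcj : ∀ n ∈ 𝒩(P), A ≤ 𝒩(cj n W) := by
    intro n hn
    rw [← cj_normalizer, ← cj_eq_of_mem_norm (hNA hn)]
    exact cj_mono n hAW
  suffices hW : W = P by
    refine eq_of_le_of_card_ge hU ?_
    rw [← hW]
    exact hmin U hU hAU hU0
  obtain ⟨n, hn⟩ := exists_isElem_of_elem hp hel le_rfl
  obtain ⟨m, -, hm⟩ := hn.exists_of_le hp hWP
  have hm2 : 2 ≤ m := by
    by_contra hlt
    have hm0 : m ≠ 0 := by
      rintro rfl
      exact hW0 (eq_bot_of_card_eq _ (by simpa using hm.card))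
    obtain rfl : m = 1 := by omega
    obtain ⟨X, hX, hAX⟩ := hA
    obtain ⟨g, hg, hgX⟩ := h.norm hP hel.1 hm hX
    exact hAX (hgX ▸ hcj g hg)
  by_contra hne
  obtain ⟨u, hu, huW⟩ := SetLike.not_le_iff_exists.1 (fun hle => hne (le_antisymm hWP hle))
  obtain ⟨w, hw, hw1⟩ := ne_bot_iff_exists.1 hW0
  have hY := isElem_two_of_indep hp hel (hWP hw) hu hw1
    (fun hh => huW (zpowers_le.2 hw hh))
  obtain ⟨X, hX⟩ := hm.sub hp hm2
  obtain ⟨g, hg, hgX⟩ := h.norm hP hel.1 (hX.mono hWP) hY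
  have hle : zpowers w ⊔ zpowers u ≤ cj g W := hgX ▸ cj_mono g hX.le
  have h1 : cj g W ⊓ W ≠ ⊥ := ne_bot_iff_exists.2
    ⟨w, mem_inf.2 ⟨hle (mem_sup_left (mem_zpowers w)), hw⟩, hw1⟩
  have h2 := hmin _ (inf_le_right.trans hWP) (norm_inf (hcj g hg) hAW) h1
  have h3 : cj g W ⊓ W = cj g W := eq_of_le_of_card_ge inf_le_left (by rwa [card_cj])
  exact huW (mem_inf.1 (h3.ge (hle (mem_sup_right (mem_zpowers u))))).2

/-- independent pairs -/
def indep (P : Subgroup G) : Set (G × G) :=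
  {s | s.1 ∈ P ∧ s.2 ∈ P ∧ s.1 ≠ 1 ∧ s.2 ∉ zpowers s.1}

theorem ncard_indep (hp : p.Prime) {P : Subgroup G} (hel : IsElementaryAbelian p P) :
    (indep P).ncard = (Nat.card P - 1) * (Nat.card P - p) := by
  classical
  have := Fintype.ofFinite G
  have e : indep P = ((((P : Set G).toFinset.erase 1).sigma fun u =>
      (P : Set G).toFinset \ (zpowers u : Set G).toFinset).map
      (Equiv.sigmaEquivProd G G).toEmbedding : Finset (G × G)) := by
    ext ⟨u, v⟩
    simp [indep]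
    tauto
  rw [e, Set.ncard_coe_finset, Finset.card_map, Finset.card_sigma]
  rw [Finset.sum_congr rfl (g := fun _ => Nat.card P - p), Finset.sum_const, smul_eq_mul,
    Finset.card_erase_of_mem (by simp)]
  · simp [Nat.card_eq_fintype_card]
  · intro u hu
    simp only [Finset.mem_erase, Set.mem_toFinset, SetLike.mem_coe] at hu
    rw [Finset.card_sdiff_of_subset (by simpa using hu.2)]
    have h1 := (isElem_zpowers' hp hu.2 (hel.2 u hu.2) hu.1).card1
    simp only [Set.toFinset_card, SetLike.coe_sort_coe, ← Nat.card_eq_fintype_card, h1]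

/-- Counting independent pairs: the automizer of `P` is large. -/
theorem AP.count (h : AP p G) (hp : p.Prime) {P : Subgroup G} (hP : IsSylowOf p P ⊤)
    (hel : IsElementaryAbelian p P) (h2 : p < Nat.card P) :
    (Nat.card P - 1) * (Nat.card P - p) ≤
      (𝒞(P)).relIndex 𝒩(P) * ((p ^ 2 - 1) * (p ^ 2 - p)) := by
  classical
  obtain ⟨n, hn⟩ := exists_isElem_of_elem hp hel le_rfl
  have hn2 : 2 ≤ n := by
    rw [hn.card] at h2
    have := (Nat.pow_lt_pow_iff_right hp.one_lt).1 ((pow_one p).trans_lt h2)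
    omega
  obtain ⟨X, hX⟩ := hn.sub hp hn2
  rw [← ncard_indep hp hel, ← hX.card, ← ncard_indep hp hX.elem]
  let f : (𝒩(P) ⧸ (𝒞(P)).subgroupOf 𝒩(P)) × indep X → G × G := fun s =>
    ((s.1.out : G) * s.2.1.1 * (s.1.out : G)⁻¹, (s.1.out : G) * s.2.1.2 * (s.1.out : G)⁻¹)
  have hsub : indep P ⊆ Set.range f := by
    rintro ⟨u, v⟩ ⟨hu, hv, hu1, hvu⟩
    obtain ⟨g, hg, hgX⟩ := h.norm hP hel.1 hX (isElem_two_of_indep hp hel hu hv hu1 hvu)
    have hu' : g⁻¹ * u * g ∈ X := mem_cj.1 (hgX.ge (mem_sup_left (mem_zpowers u)))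
    have hv' : g⁻¹ * v * g ∈ X := mem_cj.1 (hgX.ge (mem_sup_right (mem_zpowers v)))
    obtain ⟨c, hc⟩ := QuotientGroup.mk_out_eq_mul ((𝒞(P)).subgroupOf 𝒩(P)) ⟨g, hg⟩
    have hc' : ∀ x ∈ X, (g * c) * x * (g * c)⁻¹ = g * x * g⁻¹ := by
      intro x hx
      have := mem_centralizer_iff.1 (mem_subgroupOf.1 c.2) x (hX.le hx)
      calc _ = g * (c * x) * (c : G)⁻¹ * g⁻¹ := by group
        _ = _ := by rw [← this]; group
    refine ⟨(QuotientGroup.mk ⟨g, hg⟩, ⟨(g⁻¹ * u * g, g⁻¹ * v * g), hu', hv', ?_, ?_⟩), ?_⟩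
    · intro h1
      apply hu1
      calc u = g * (g⁻¹ * u * g) * g⁻¹ := by group
        _ = 1 := by rw [show g⁻¹ * u * g = 1 from h1]; group
    · rintro ⟨k, hk⟩
      refine hvu ⟨k, ?_⟩
      change (g⁻¹ * u * g) ^ k = g⁻¹ * v * g at hk
      have : (g⁻¹ * u * g⁻¹⁻¹) ^ k = g⁻¹ * v * g := by rwa [inv_inv]
      rw [conj_zpow, inv_inv] at this
      simpa using this
    · simp only [f, hc, Subgroup.coe_mul]
      rw [hc' _ hu', hc' _ hv']
      simp [mul_assoc]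
  calc (indep P).ncard ≤ (Set.range f).ncard := Set.ncard_le_ncard hsub (Set.toFinite _)
    _ ≤ Nat.card ((𝒩(P) ⧸ (𝒞(P)).subgroupOf 𝒩(P)) × indep X) := by
        rw [← Set.image_univ, ← Set.ncard_univ]
        exact Set.ncard_image_le (Set.toFinite _)
    _ = _ := by rw [Nat.card_prod, Nat.card_coe_set_eq]; rfl

/-- the hypothesis passes to quotients when it holds for all `p`-subgroups -/
theorem pconj_map {H : Type*} [Group H] (hp : p.Prime)
    (hD : ∀ A B : Subgroup G, IsPGroup p A → IsPGroup p B → Nat.card A = Nat.card B →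
      ∃ g : G, B = A.map (MulAut.conj g).toMonoidHom) (f : G →* H) (hf : Function.Surjective f)
    (A B : Subgroup H) (hA : IsPGroup p A) (hB : IsPGroup p B) (hAB : Nat.card A = Nat.card B) :
    ∃ g : H, B = A.map (MulAut.conj g).toMonoidHom := by
  have : Finite H := Finite.of_surjective f hf
  have key : ∀ A : Subgroup H, IsPGroup p A → ∃ P, IsSylowOf p P (A.comap f) ∧ P.map f = A := by
    intro A hA
    obtain ⟨P, hP⟩ := exists_sylowOf p (A.comap f)
    refine ⟨P, hP, ?_⟩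
    have h1 := hP.map f
    rw [map_comap_eq_self_of_surjective hf] at h1
    exact h1.eq_self (isPi_of_isPGroup hp hA)
  obtain ⟨P, hP, hPA⟩ := key A hA
  obtain ⟨Q, hQ, hQB⟩ := key B hB
  have hc : ∀ A : Subgroup H, Nat.card (A.comap f) = Nat.card f.ker * Nat.card A := by
    intro A
    have h1 := card_mul_relIndex (H := f.ker) (K := A.comap f) (by
      intro x hx; rw [mem_comap, (MonoidHom.mem_ker).1 hx]; exact one_mem _)
    rw [← h1, relIndex_ker, map_comap_eq_self_of_surjective hf]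
  have hcard : Nat.card P = Nat.card Q := by
    have h1 := card_mul_relIndex hP.le
    have h2 := card_mul_relIndex hQ.le
    rw [hc] at h1 h2
    exact pi_factor_unique (π := {p}) (by rw [h1, h2, hAB]) hP.pi hP.index hQ.pi hQ.index
  obtain ⟨g, hg⟩ := hD P Q (hP.pi.isPGroup hp) (hQ.pi.isPGroup hp) hcard
  refine ⟨f g, ?_⟩
  rw [map_conj_eq_cj] at hg ⊢
  rw [← hQB, hg, map_cj, hPA]

end Cfsg.Agent.H19
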