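import Cfsg.Agent.H19.EqB
import Cfsg.Agent.H28.Sixty
import Cfsg.Agent.S0251

/-! The affine case: a normal elementary abelian Sylow `2`-subgroup. -/

set_option autoImplicit false
set_option linter.unusedSectionVars false

namespace Cfsg.Agent.H19

open Subgroup Cfsg.Agent.H49

universe u

variable {G : Type u} [Group G] [Finite G]

theorem AP.prime_conj {p : ℕ} (h : AP p G) (hp : p.Prime) {u v : G} (hu : orderOf u = p)
    (hv : orderOf v = p) : ∃ g : G, cj g (zpowers u) = zpowers v :=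
  h.elem (isElem_zpowers hp (mem_top u) hu) (isElem_zpowers hp (mem_top v) hv)

theorem AP.invol_conj (h : AP 2 G) {u v : G} (hu : orderOf u = 2) (hv : orderOf v = 2) :
    ∃ g : G, g * u * g⁻¹ = v := by
  obtain ⟨g, hg⟩ := h.prime_conj Nat.prime_two hu hv
  refine ⟨g, eq_of_mem_zpowers_two (by rw [← hv, pow_orderOf_eq_one])
    (hg ▸ conj_mem_cj.2 (mem_zpowers u)) ?_⟩
  intro h1
  rw [conj_eq_one_iff] at h1
  simp [h1] at hu

theorem AP.mem_of_normal {p : ℕ} (h : AP p G) (hp : p.Prime) (M : Subgroup G) [M.Normal]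
    (hM : p ∣ Nat.card M) {v : G} (hv : v ^ p = 1) : v ∈ M := by
  have := Fact.mk hp
  by_cases h1 : v = 1
  · exact h1 ▸ one_mem _
  obtain ⟨u, hu, hup⟩ := exists_orderOf_eq_of_dvd_card hp hM
  obtain ⟨g, hg⟩ := h.prime_conj hp hup (orderOf_eq_prime hv h1)
  have h2 : cj g (zpowers u) ≤ M :=
    cj_le_of_mem_norm (zpowers_le.2 hu) (normal_iff_top_le_norm.1 inferInstance (mem_top g))
  exact h2 (hg.ge (mem_zpowers v))

theorem cent_le_of_normal_sylow {p : ℕ} (hp : p.Prime) {T : Subgroup G} [T.Normal]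
    (hT : IsSylowOf p T ⊤) (hab : IsMulCommutative T) (hO : pPrimeCore p G = ⊥) : 𝒞(T) ≤ T := by
  have hn : ⊤ ≤ 𝒩(T) := normal_iff_top_le_norm.1 inferInstance
  have h1 : IsSylowOf p T 𝒞(T) := hT.sub (abelian_iff.1 hab) le_top
  obtain ⟨K, hK⟩ := exists_hall_compl h1 (cent_le_norm T)
  have h2 : 𝒞(T) ≤ 𝒩(K) := by
    rw [← (h1.isProd hK).sup_eq]
    exact sup_le (norm_of_cent (cent_symm hK.le)) le_normalizer
  have h3 : K ≤ piCoreOf {p}ᶜ ⊤ :=
    (le_piCoreOf hK.le h2 hK.pi).trans (piCoreOf_le_of_normal _ le_top (norm_cent hn))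
  rw [← pPrimeCore_eq_piCoreOf_top hp, hO, le_bot_iff] at h3
  rw [← (h1.isProd hK).sup_eq, h3, sup_bot_eq]

theorem nonempty_galois {K : Type*} [Field K] [Finite K] {p n : ℕ} [Fact p.Prime] (hn : n ≠ 0)
    (h : Nat.card K = p ^ n) : Nonempty (K ≃+* GaloisField p n) := by
  have := Fintype.ofFinite K
  have := Fintype.ofFinite (GaloisField p n)
  exact ⟨FiniteField.ringEquivOfCardEq (by
    rw [← Nat.card_eq_fintype_card, ← Nat.card_eq_fintype_card, h, GaloisField.card p n hn])⟩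

theorem AP.affine_case (h : AP 2 G) {T : Subgroup G} [T.Normal] (hT : IsSylowOf 2 T ⊤)
    (hel : IsElementaryAbelian 2 T) (hO : pPrimeCore 2 G = ⊥) (h2 : 2 < Nat.card T) :
    Nonempty (G ≃* alternatingGroup (Fin 4)) ∨
    Nonempty (G ≃* affineGroup (GaloisField 2 3)) ∨
    Nonempty (G ≃* semiaffineGroup (GaloisField 2 3)) ∨
    Nonempty (G ≃* semiaffineGroup (GaloisField 2 5)) := by
  obtain ⟨n, hn⟩ := exists_isElem_of_elem Nat.prime_two hel le_rfl
  have hn2 : 2 ≤ n := by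
    rw [hn.card] at h2
    have := (Nat.pow_lt_pow_iff_right one_lt_two).1 ((pow_one 2).trans_lt h2)
    omega
  have hC := cent_le_of_normal_sylow Nat.prime_two hT hel.1 hO
  have hC' : 𝒞(T) = T := le_antisymm hC (abelian_iff.1 hel.1)
  have hN : 𝒩(T) = ⊤ := top_le_iff.1 (normal_iff_top_le_norm.1 inferInstance)
  have hr := h.rank hT hel hn.card hn2
  have hG := T.card_mul_index
  rw [hC', hN, relIndex_top_right] at hr
  rw [hn.card] at hG
  have key : ∀ m : ℕ, m ≠ 0 → n = m → ∃ ρ : G →* Equiv.Perm (GaloisField 2 m),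
      Function.Injective ρ ∧ ρ.range ≤ semiaffineGroup (GaloisField 2 m) := by
    rintro m hm rfl
    obtain ⟨K, _, _, φ, h3, h4, h5, h6⟩ := h.coords hT hel h2
    obtain ⟨ρ, h7, h8⟩ := exists_semiaffine_hom hT hC h3 h4 h5 h6
    obtain ⟨e⟩ := nonempty_galois hm ((card_eq_of_coords h3 h4).trans hn.card)
    refine ⟨(e.toEquiv.permCongrHom : Equiv.Perm K →* _).comp ρ,
      e.toEquiv.permCongrHom.injective.comp h7, ?_⟩
    rw [MonoidHom.range_comp]
    exact (map_mono h8).trans (semiaffine_map_le e)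
  have hA : ∀ m : ℕ, m ≠ 0 → Nat.card (RingAut (GaloisField 2 m)) = m := fun m hm => by
    have := Fintype.ofFinite (GaloisField 2 m)
    exact H29.card_ringAut (p := 2) (by rw [← Nat.card_eq_fintype_card, GaloisField.card 2 m hm])
  rcases hr with ⟨rfl, hr⟩ | ⟨rfl, hr | hr⟩ | ⟨rfl, hr⟩
  · left
    rw [hr] at hG
    refine H28.alt4_of_orders hG.symm fun g hg => ?_
    have hu : orderOf (g ^ 3) = 2 := by rw [orderOf_pow_of_dvd (by norm_num) (by simp [hg]), hg]
    have huT : g ^ 3 ∈ T := h.mem_of_normal Nat.prime_two T (by rw [hn.card]; norm_num)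
      (by rw [← hu, pow_orderOf_eq_one])
    have h3 : Nat.card T ∣ Nat.card 𝒞[g ^ 3] :=
      card_dvd_of_le ((abelian_iff.1 hel.1).trans (cent_le_cent1 huT))
    have h4 : orderOf g ∣ Nat.card 𝒞[g ^ 3] :=
      Subgroup.orderOf_dvd_natCard _ (mem_cent1.2 (Commute.self_pow g 3).eq)
    have h5 : 𝒞[g ^ 3] = ⊤ := by
      refine eq_top_of_card_eq _ (Nat.dvd_antisymm (card_subgroup_dvd_card _) ?_)
      rw [hn.card] at h3
      rw [hg] at h4
      rw [← hG]
      exact Nat.lcm_dvd h3 h4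
    have h6 : T ≤ zpowers (g ^ 3) := by
      intro v hv
      by_cases hv1 : v = 1
      · exact hv1 ▸ one_mem _
      obtain ⟨x, rfl⟩ := h.invol_conj hu (orderOf_eq_prime (hel.2 v hv) hv1)
      rw [mem_cent1.1 (h5.ge (mem_top x)), mul_inv_cancel_right]
      exact mem_zpowers _
    have h7 := card_le_of_le h6
    rw [Nat.card_zpowers, hu] at h7
    omega
  · right; left
    obtain ⟨ρ, h3, h4⟩ := key 3 (by norm_num) rfl
    have h5 : Nat.card ρ.range = 56 := by
      rw [← Nat.card_congr (MonoidHom.ofInjective h3).toEquiv, ← hG, hr]; norm_num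
    refine nonempty_equiv_of_injective ρ h3 (le_affine_of_coprime h4 ?_) ?_
    · rw [h5, hA 3 (by norm_num)]; norm_num
    · rw [card_affine, Nat.card_units, GaloisField.card 2 3 (by norm_num), ← hG, hr]; norm_num
  · right; right; left
    obtain ⟨ρ, h3, h4⟩ := key 3 (by norm_num) rfl
    refine nonempty_equiv_of_injective ρ h3 h4 ?_
    rw [card_semiaffine, Nat.card_units, GaloisField.card 2 3 (by norm_num), hA 3 (by norm_num),
      ← hG, hr]; norm_num
  · right; right; right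
    obtain ⟨ρ, h3, h4⟩ := key 5 (by norm_num) rfl
    refine nonempty_equiv_of_injective ρ h3 h4 ?_
    rw [card_semiaffine, Nat.card_units, GaloisField.card 2 5 (by norm_num), hA 5 (by norm_num),
      ← hG, hr]; norm_num

/-- With an elementary abelian Sylow `2`-subgroup and `O(G) = 1`, either the Sylow subgroup
is normal or there is a simple normal subgroup. -/
theorem AP.normal_or_simple (h : AP 2 G) {T : Subgroup G} (hT : IsSylowOf 2 T ⊤)
    (hel : IsElementaryAbelian 2 T) (hO : pPrimeCore 2 G = ⊥) :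
    T.Normal ∨ ∃ M : Subgroup G, M.Normal ∧ IsSimpleGroup M ∧ ¬ IsMulCommutative M ∧ T ≤ M ∧
      𝒞(M) = ⊥ := by
  classical
  by_cases hTn : T.Normal
  · exact Or.inl hTn
  right
  have heven : ∀ N : Subgroup G, ⊤ ≤ 𝒩(N) → N ≠ ⊥ → 2 ∣ Nat.card N := by
    intro N hN h0
    by_contra hc
    have h1 := le_piCoreOf le_top hN ((isPi_compl_singleton Nat.prime_two).2 hc)
    rw [← pPrimeCore_eq_piCoreOf_top Nat.prime_two, hO, le_bot_iff] at h1
    exact h0 h1
  have hTle : ∀ N : Subgroup G, ⊤ ≤ 𝒩(N) → N ≠ ⊥ → T ≤ N := by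
    intro N hN h0 v hv
    have := normal_iff_top_le_norm.2 hN
    exact h.mem_of_normal Nat.prime_two N (heven N hN h0) (hel.2 v hv)
  have hcore : ∀ M : Subgroup G, ⊤ ≤ 𝒩(M) → piCoreOf {2} M = ⊥ := by
    intro M hM
    by_contra h0
    have h1 := norm_piCoreOf {2} hM
    have h2 := hT.eq_of_le (hTle _ h1 h0) le_top (piCoreOf_pi _ _)
    exact hTn (normal_iff_top_le_norm.2 (h2 ▸ h1))
  have hocore : ∀ M : Subgroup G, ⊤ ≤ 𝒩(M) → piCoreOf {2}ᶜ M = ⊥ := by
    intro M hM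
    by_contra h0
    exact (isPi_compl_singleton Nat.prime_two).1 (piCoreOf_pi _ _)
      (heven _ (norm_piCoreOf _ hM) h0)
  have hG : (⊤ : Subgroup G) ≠ ⊥ := fun h0 =>
    hTn (by rw [le_bot_iff.1 (le_top.trans h0.le : T ≤ ⊥)]; infer_instance)
  have hex : ∃ k, ∃ M : Subgroup G, ⊤ ≤ 𝒩(M) ∧ M ≠ ⊥ ∧ Nat.card M = k :=
    ⟨_, ⊤, le_norm_top _, hG, rfl⟩
  obtain ⟨M, hM, hM0, hMk⟩ := Nat.find_spec hex
  have hMmin : ∀ N : Subgroup G, ⊤ ≤ 𝒩(N) → N ≠ ⊥ → N ≤ M → N = M := fun N h1 h2 h3 =>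
    eq_of_le_of_card_ge h3 (hMk ▸ Nat.find_min' hex ⟨N, h1, h2, rfl⟩)
  -- normal subgroups of `M`: no nontrivial abelian ones, all of even order
  have hab : ∀ N : Subgroup G, N ≤ M → M ≤ 𝒩(N) → IsMulCommutative N → N = ⊥ := by
    intro N h1 h2 h3
    have h4 := nilpotent_isDp (nilpotent_of_abelian h3) {2}
    have h5 := piCoreOf_le_of_normal {2} h1 h2
    have h6 := piCoreOf_le_of_normal {2}ᶜ h1 h2
    rw [hcore M hM, le_bot_iff] at h5
    rw [hocore M hM, le_bot_iff] at h6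
    rw [← h4.isSdp.isProd.sup_eq, h5, h6, bot_sup_eq]
  have hinv : ∀ N : Subgroup G, N ≤ M → M ≤ 𝒩(N) → N ≠ ⊥ → ∃ s ∈ N, orderOf s = 2 := by
    intro N h1 h2 h3
    refine exists_orderOf_eq_of_dvd_card Nat.prime_two ?_
    by_contra hc
    have h4 := le_piCoreOf h1 h2 ((isPi_compl_singleton Nat.prime_two).2 hc)
    rw [hocore M hM, le_bot_iff] at h4
    exact h3 h4
  have hex2 : ∃ k, ∃ L : Subgroup G, L ≤ M ∧ M ≤ 𝒩(L) ∧ L ≠ ⊥ ∧ Nat.card L = k :=
    ⟨_, M, le_rfl, le_normalizer, hM0, rfl⟩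
  obtain ⟨L, hLM, hML, hL0, hLk⟩ := Nat.find_spec hex2
  have hLmin : ∀ N : Subgroup G, N ≤ M → M ≤ 𝒩(N) → N ≠ ⊥ → Nat.card L ≤ Nat.card N :=
    fun N h1 h2 h3 => hLk ▸ Nat.find_min' hex2 ⟨N, h1, h2, h3, rfl⟩
  have hZ : L ⊓ 𝒞(L) = ⊥ := hab _ (inf_le_left.trans hLM) (norm_inf hML (norm_cent hML))
    (abelian_iff.2 (inf_le_right.trans (cent_anti inf_le_left)))
  have hcj : ∀ g : G, cj g L ≤ M ∧ M ≤ 𝒩(cj g L) := fun g =>
    ⟨cj_le_of_mem_norm hLM (hM (mem_top g)), by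
      rw [← cj_normalizer, ← cj_eq_of_mem_norm (hM (mem_top g))]
      exact cj_mono g hML⟩
  have hdich : ∀ g : G, cj g L = L ∨ cj g L ≤ 𝒞(L) := by
    intro g
    by_cases h0 : cj g L ⊓ L = ⊥
    · exact Or.inr (cent_of_norm_of_disjoint ((hcj g).1.trans hML) (hLM.trans (hcj g).2) h0)
    · left
      have h1 := hLmin _ (inf_le_right.trans hLM) (norm_inf (hcj g).2 hML) h0
      have h2 : cj g L ⊓ L = L := eq_of_le_of_card_ge inf_le_right h1
      exact (eq_of_le_of_card_ge (h2.ge.trans inf_le_left) (card_cj g L).le).symm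
  have hCL : M ⊓ 𝒞(L) = ⊥ := by
    by_contra h0
    obtain ⟨s, hs, hs2⟩ := hinv _ inf_le_left (norm_inf le_normalizer (norm_cent hML)) h0
    obtain ⟨t, ht, ht2⟩ := hinv L hLM hML hL0
    have hs' := (mem_inf.1 hs).2
    have hts : t * s = s * t := mem_centralizer_iff.1 hs' t ht
    have hs1 : s ∉ L := fun h1 => by
      have h2 : s ∈ L ⊓ 𝒞(L) := mem_inf.2 ⟨h1, hs'⟩
      rw [hZ, mem_bot] at h2
      simp [h2] at hs2
    have h3 : orderOf (t * s) = 2 := by
      refine orderOf_eq_prime ?_ fun h4 => hs1 ?_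
      · rw [Commute.mul_pow hts, ← ht2, pow_orderOf_eq_one, ht2, ← hs2, pow_orderOf_eq_one, one_mul]
      · rw [eq_inv_of_mul_eq_one_right h4]
        exact inv_mem ht
    obtain ⟨g, hg⟩ := h.invol_conj ht2 h3
    have h4 : t * s ∈ cj g L := hg ▸ conj_mem_cj.2 ht
    rcases hdich g with h5 | h5
    · rw [h5] at h4
      exact hs1 ((mul_mem_cancel_left ht).1 h4)
    · have h6 : t ∈ L ⊓ 𝒞(L) := mem_inf.2 ⟨ht, (mul_mem_cancel_right hs').1 (h5 h4)⟩
      rw [hZ, mem_bot] at h6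
      simp [h6] at ht2
  have hLM' : L = M := by
    refine hMmin L (le_norm_of_cj fun g _ => (hdich g).resolve_right fun h1 => hL0 ?_) hL0 hLM
    rw [← cj_eq_bot_iff (g := g), eq_bot_iff, ← hCL]
    exact le_inf (hcj g).1 h1
  subst hLM'
  have hsimple : IsSimpleGroup L := by
    have := (nontrivial_iff_ne_bot L).2 hL0
    refine ⟨fun N hN => ?_⟩
    by_cases h0 : N = ⊥
    · exact Or.inl h0
    right
    have h1 := hLmin (N.map L.subtype) (map_subtype_le N) (norm_map_subtype N)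
      (by rwa [Ne, Subgroup.map_eq_bot_iff_of_injective _ L.subtype_injective])
    rw [card_map_of_injective L.subtype_injective] at h1
    exact eq_top_of_le_card _ h1
  refine ⟨L, normal_iff_top_le_norm.2 hM, hsimple, fun h1 => hL0 (hab L le_rfl hML h1),
    hTle L hM hL0, ?_⟩
  by_contra h0
  have h1 := le_inf (hTle L hM hL0) (hTle _ (norm_cent hM) h0)
  rw [hZ, le_bot_iff] at h1
  exact hTn (h1 ▸ inferInstance)

end Cfsg.Agent.H19
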