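import Mathlib.Algebra.Lie.Basic
import Mathlib.Data.ZMod.Basic
import Mathlib.Algebra.Field.ZMod
import Mathlib.Algebra.Group.Subgroup.Lattice
import Mathlib.Algebra.BigOperators.Group.Finset.Basic
import Mathlib.GroupTheory.SpecificGroups.Cyclic
import Mathlib.Tactic.Abel
import Mathlib.Tactic.Ring
import Mathlib.Tactic.Linarith

/-! The theorems of Kreknin and Kostrikin on `ℤ/n`-graded Lie rings with trivial zero component.
The "grading" is any family `F` of additive subgroups with `⁅F i, F j⁆ ≤ F (i + j)`; no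
directness of the sum is assumed. -/

set_option autoImplicit false

namespace Cfsg.Agent.H19

variable {L : Type*} [LieRing L] {ι : Type*} [AddCommGroup ι]

/-- The graded bracket of two families of additive subgroups. -/
def gbr (A B : ι → AddSubgroup L) (i : ι) : AddSubgroup L :=
  AddSubgroup.closure {z | ∃ u v : ι, ∃ x ∈ A u, ∃ y ∈ B v, u + v = i ∧ ⁅x, y⁆ = z}

theorem lie_mem_gbr {A B : ι → AddSubgroup L} {u v i : ι} {x y : L} (hx : x ∈ A u) (hy : y ∈ B v)
    (h : u + v = i) : ⁅x, y⁆ ∈ gbr A B i :=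
  AddSubgroup.subset_closure ⟨u, v, x, hx, y, hy, h, rfl⟩

theorem gbr_le {A B : ι → AddSubgroup L} {i : ι} {Z : AddSubgroup L}
    (h : ∀ u v, ∀ x ∈ A u, ∀ y ∈ B v, u + v = i → ⁅x, y⁆ ∈ Z) : gbr A B i ≤ Z := by
  rw [gbr, AddSubgroup.closure_le]
  rintro _ ⟨u, v, x, hx, y, hy, huv, rfl⟩
  exact h u v x hx y hy huv

theorem gbr_mono {A B A' B' : ι → AddSubgroup L} (hA : A ≤ A') (hB : B ≤ B') :
    gbr A B ≤ gbr A' B' := fun _ =>
  gbr_le fun u v _ hx _ hy h => lie_mem_gbr (hA u hx) (hB v hy) h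

/-- Right multiplication as an additive homomorphism. -/
def rmul (y : L) : L →+ L := AddMonoidHom.mk' (fun x => ⁅x, y⁆) fun a b => add_lie a b y

/-- Left multiplication as an additive homomorphism. -/
def lmul (x : L) : L →+ L := AddMonoidHom.mk' (fun y => ⁅x, y⁆) fun a b => lie_add x a b

/-- The graded derived family. -/
def gder (F : ι → AddSubgroup L) : ι → AddSubgroup L := gbr F F

theorem gder_closed {F : ι → AddSubgroup L} (hF : gder F ≤ F) : gder (gder F) ≤ gder F :=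
  gbr_mono hF hF

theorem gder_iterate_le {F : ι → AddSubgroup L} (hF : gder F ≤ F) (k : ℕ) :
    gder^[k] F ≤ F ∧ gder (gder^[k] F) ≤ gder^[k] F := by
  induction k with
  | zero => exact ⟨le_rfl, hF⟩
  | succ k ih =>
    rw [Function.iterate_succ_apply']
    exact ⟨ih.2.trans ih.1, gder_closed ih.2⟩

/-- The smallest closed family containing `S`. -/
def ggen (S : ι → AddSubgroup L) : ι → AddSubgroup L :=
  sInf {F | S ≤ F ∧ gder F ≤ F}

theorem le_ggen (S : ι → AddSubgroup L) : S ≤ ggen S := le_sInf fun _ h => h.1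

theorem ggen_le {S F : ι → AddSubgroup L} (h1 : S ≤ F) (h2 : gder F ≤ F) : ggen S ≤ F :=
  sInf_le ⟨h1, h2⟩

theorem ggen_closed (S : ι → AddSubgroup L) : gder (ggen S) ≤ ggen S :=
  le_sInf fun _ h => (gbr_mono (ggen_le h.1 h.2) (ggen_le h.1 h.2)).trans h.2

theorem gbr_ggen_le {S F : ι → AddSubgroup L} (hS : S ≤ F) (hF : gder F ≤ F) :
    gbr F (ggen S) ≤ gbr F S := by
  let Z : ι → AddSubgroup L := fun v =>
    F v ⊓ ⨅ u, ⨅ x ∈ F u, (gbr F S (u + v)).comap (lmul x)
  have hZ : ∀ v y, y ∈ Z v ↔ y ∈ F v ∧ ∀ u, ∀ x ∈ F u, ⁅x, y⁆ ∈ gbr F S (u + v) := by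
    intro v y
    simp [Z, AddSubgroup.mem_iInf, lmul]
  have : ggen S ≤ Z := by
    apply ggen_le
    · intro v y hy
      exact (hZ v y).mpr ⟨hS v hy, fun u x hx => lie_mem_gbr hx hy rfl⟩
    · intro v
      apply gbr_le
      intro v₁ v₂ y₁ h₁ y₂ h₂ hv
      rw [hZ] at h₁ h₂ ⊢
      refine ⟨hF v (lie_mem_gbr h₁.1 h₂.1 hv), fun u x hx => ?_⟩
      have e : ⁅x, ⁅y₁, y₂⁆⁆ = ⁅⁅x, y₁⁆, y₂⁆ - ⁅⁅x, y₂⁆, y₁⁆ := by
        rw [leibniz_lie, ← lie_skew y₁ ⁅x, y₂⁆, sub_eq_add_neg]
      rw [e]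
      apply sub_mem
      · have := h₂.2 _ _ (hF _ (lie_mem_gbr hx h₁.1 rfl))
        rwa [add_assoc, hv] at this
      · have := h₁.2 _ _ (hF _ (lie_mem_gbr hx h₂.1 rfl))
        rwa [add_assoc, add_comm v₂, hv] at this
  intro i
  apply gbr_le
  intro u v x hx y hy h
  exact h ▸ ((hZ v y).mp (this v hy)).2 u x hx

/-- The components of index at least `k`. -/
def gtrunc {n : ℕ} (k : ℕ) (F : ZMod n → AddSubgroup L) (i : ZMod n) : AddSubgroup L :=
  if k ≤ i.val then F i else ⊥

theorem gtrunc_le {n : ℕ} (k : ℕ) (F : ZMod n → AddSubgroup L) : gtrunc k F ≤ F := by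
  intro i
  unfold gtrunc
  split_ifs
  · exact le_rfl
  · exact bot_le

theorem kreknin_aux {n : ℕ} [NeZero n] (k : ℕ) : ∀ F : ZMod n → AddSubgroup L, gder F ≤ F →
    F 0 = ⊥ → gder^[2 ^ k - 1] F ≤ ggen (gtrunc (k + 1) F) := by
  induction k with
  | zero =>
    intro F _ h0 i
    refine le_trans ?_ (le_ggen _ i)
    simp only [pow_zero, Nat.sub_self, Function.iterate_zero, id, gtrunc, zero_add]
    split_ifs with h
    · exact le_rfl
    · rw [(ZMod.val_eq_zero i).mp (by omega), h0]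
  | succ k ih =>
    intro F hF h0
    have hM := gder_iterate_le hF (2 ^ k)
    have hpos : 0 < 2 ^ k := Nat.two_pow_pos k
    have e : 2 ^ (k + 1) - 1 = (2 ^ k - 1) + 2 ^ k := by rw [pow_succ]; omega
    rw [e, Function.iterate_add_apply]
    refine (ih _ hM.2 (eq_bot_iff.mpr (h0 ▸ hM.1 0))).trans (ggen_le ?_ (ggen_closed _))
    intro i
    unfold gtrunc
    split_ifs with hi
    swap
    · exact bot_le
    rcases hi.eq_or_lt with hi | hi
    swap
    · refine (hM.1 i).trans (le_trans ?_ (le_ggen _ i))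
      simp only [if_pos (Nat.succ_le_of_lt hi)]
      exact le_rfl
    have e2 : gder^[2 ^ k] F = gder (gder^[2 ^ k - 1] F) := by
      rw [← Function.iterate_succ_apply' gder, Nat.succ_eq_add_one, Nat.sub_add_cancel hpos]
    rw [e2]
    refine (gbr_mono (gder_iterate_le hF _).1 (ih F hF h0) i).trans
      ((gbr_ggen_le (gtrunc_le _ F) hF i).trans (gbr_le ?_))
    intro u v x hx y hy huv
    unfold gtrunc at hy
    split_ifs at hy with hv
    swap
    · rw [AddSubgroup.mem_bot] at hy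
      rw [hy, lie_zero]
      exact zero_mem _
    by_cases hu : u = 0
    · rw [hu, h0, AddSubgroup.mem_bot] at hx
      rw [hx, zero_lie]
      exact zero_mem _
    have h1 : u.val ≠ 0 := fun h => hu ((ZMod.val_eq_zero u).mp h)
    have h2 := ZMod.val_lt u
    have h3 := ZMod.val_lt v
    have h4 := ZMod.val_add u v
    rw [huv, ← hi] at h4
    have h5 : n ≤ u.val + v.val := by
      by_contra h
      rw [Nat.mod_eq_of_lt (by omega)] at h4
      omega
    rw [Nat.mod_eq_sub_mod h5, Nat.mod_eq_of_lt (by omega)] at h4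
    refine ggen_closed _ i (lie_mem_gbr (le_ggen _ u ?_) (le_ggen _ v ?_) huv)
    · simp only [if_pos (show k + 1 + 1 ≤ u.val by omega)]
      exact hx
    · simp only [if_pos (show k + 1 + 1 ≤ v.val by omega)]
      exact hy

/-- **Kreknin's theorem.** -/
theorem kreknin {n : ℕ} [NeZero n] (F : ZMod n → AddSubgroup L) (hF : gder F ≤ F) (h0 : F 0 = ⊥) :
    gder^[2 ^ (n - 1) - 1] F = ⊥ := by
  rw [eq_bot_iff]
  refine (kreknin_aux _ F hF h0).trans (ggen_le ?_ ?_)
  · intro i
    have := ZMod.val_lt i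
    rw [gtrunc, if_neg (by omega)]
    exact le_rfl
  · intro i
    apply gbr_le
    intro u v x hx y _ _
    rw [Pi.bot_apply, AddSubgroup.mem_bot] at hx
    rw [hx, zero_lie]
    exact zero_mem _

/-- The graded lower central series: `glcs F 0 = F`. -/
def glcs (F : ι → AddSubgroup L) (k : ℕ) : ι → AddSubgroup L := (fun W => gbr W F)^[k] F

theorem glcs_succ (F : ι → AddSubgroup L) (k : ℕ) : glcs F (k + 1) = gbr (glcs F k) F :=
  Function.iterate_succ_apply' _ _ _

/-- The left-normed product of `w` with a list of elements. -/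
def lprod : List (ι × L) → L →+ L
  | [] => AddMonoidHom.id L
  | a :: l => (lprod l).comp (rmul a.2)

theorem iterate_gbr_le (F Z : ι → AddSubgroup L) (m : ℕ) : ∀ W : ι → AddSubgroup L,
    (∀ l : List (ι × L), l.length = m → (∀ a ∈ l, a.2 ∈ F a.1) → ∀ u, ∀ w ∈ W u,
      lprod l w ∈ Z (u + (l.map Prod.fst).sum)) → (fun W => gbr W F)^[m] W ≤ Z := by
  induction m with
  | zero =>
    intro W h u w hw
    simpa [lprod] using h [] rfl (by simp) u w hw
  | succ m ih =>
    intro W h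
    rw [Function.iterate_succ_apply]
    apply ih
    intro l hl hF i
    change gbr W F i ≤ (Z _).comap (lprod l)
    apply gbr_le
    intro u v x hx y hy huv
    have := h ((v, y) :: l) (by simp [hl]) (by simpa using ⟨hy, by simpa using hF⟩) u x hx
    rw [List.map_cons, List.sum_cons, ← add_assoc, huv] at this
    exact this

theorem lprod_mem {F W : ι → AddSubgroup L} (hW : gbr W F ≤ W) (l : List (ι × L)) :
    (∀ a ∈ l, a.2 ∈ F a.1) → ∀ u, ∀ w ∈ W u, lprod l w ∈ W (u + (l.map Prod.fst).sum) := by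
  induction l with
  | nil => intro _ u w hw; simpa [lprod] using hw
  | cons a l ih =>
    intro h u w hw
    have := ih (fun b hb => h b (List.mem_cons_of_mem _ hb)) _ _
      (hW _ (lie_mem_gbr hw (h a List.mem_cons_self) rfl))
    rwa [List.map_cons, List.sum_cons, ← add_assoc]

theorem lprod_comm {F W W' : ι → AddSubgroup L} (hW : gbr W F ≤ W) (hW' : gbr W' F ≤ W')
    (hc : gbr W (gder F) ≤ W') {j : ι} {y : L} (hy : y ∈ F j) (l : List (ι × L)) :
    (∀ a ∈ l, a.2 ∈ F a.1) → ∀ u, ∀ w ∈ W u,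
      lprod l ⁅w, y⁆ - ⁅lprod l w, y⁆ ∈ W' (u + j + (l.map Prod.fst).sum) := by
  induction l with
  | nil => intro _ u w hw; simp [lprod]
  | cons a l ih =>
    intro h u w hw
    have hl : ∀ b ∈ l, b.2 ∈ F b.1 := fun b hb => h b (List.mem_cons_of_mem _ hb)
    have ha := h a List.mem_cons_self
    have h1 := ih hl _ _ (hW _ (lie_mem_gbr hw ha rfl))
    have h2 := lprod_mem hW' l hl _ _ (hc _ (lie_mem_gbr hw (lie_mem_gbr hy ha rfl) rfl))
    have e : lprod (a :: l) ⁅w, y⁆ - ⁅lprod (a :: l) w, y⁆ =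
        lprod l ⁅w, ⁅y, a.2⁆⁆ + (lprod l ⁅⁅w, a.2⁆, y⁆ - ⁅lprod l ⁅w, a.2⁆, y⁆) := by
      have e1 : ⁅w, ⁅y, a.2⁆⁆ = ⁅⁅w, y⁆, a.2⁆ - ⁅⁅w, a.2⁆, y⁆ := by
        rw [leibniz_lie, ← lie_skew y ⁅w, a.2⁆, sub_eq_add_neg]
      rw [e1, map_sub]
      change lprod l ⁅⁅w, y⁆, a.2⁆ - ⁅lprod l ⁅w, a.2⁆, y⁆ = _
      abel
    rw [e, List.map_cons, List.sum_cons]
    apply add_mem
    · convert h2 using 2
      abel
    · convert h1 using 2
      abel

/-- The set of partial sums of a list. -/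
def subsums [DecidableEq ι] : List ι → Finset ι
  | [] => {0}
  | a :: l => subsums l ∪ (subsums l).image (a + ·)

theorem lprod_mem_of_subsums [DecidableEq ι] {F W W' : ι → AddSubgroup L} (hW : gbr W F ≤ W)
    (hW' : gbr W' F ≤ W') (hc : gbr W (gder F) ≤ W') (h0 : W 0 = ⊥) (l : List (ι × L)) :
    (∀ a ∈ l, a.2 ∈ F a.1) → ∀ u, -u ∈ subsums (l.map Prod.fst) → ∀ w ∈ W u,
      lprod l w ∈ W' (u + (l.map Prod.fst).sum) := by
  induction l with
  | nil =>
    intro _ u hu w hw
    simp only [List.map_nil, subsums, Finset.mem_singleton, neg_eq_zero] at hu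
    rw [hu, h0, AddSubgroup.mem_bot] at hw
    rw [hw, map_zero]
    exact zero_mem _
  | cons a l ih =>
    intro h u hu w hw
    have hl : ∀ b ∈ l, b.2 ∈ F b.1 := fun b hb => h b (List.mem_cons_of_mem _ hb)
    have ha := h a List.mem_cons_self
    rw [List.map_cons, subsums, Finset.mem_union, Finset.mem_image] at hu
    rw [List.map_cons, List.sum_cons, ← add_assoc]
    change lprod l ⁅w, a.2⁆ ∈ _
    rcases hu with hu | ⟨t, ht, hu⟩
    · have h1 := lprod_comm hW hW' hc ha l hl u w hw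
      have h2 : ⁅lprod l w, a.2⁆ ∈ W' (u + a.1 + (l.map Prod.fst).sum) :=
        hW' _ (lie_mem_gbr (ih hl u hu w hw) ha (by abel))
      simpa using add_mem h1 h2
    · refine ih hl _ ?_ _ (hW _ (lie_mem_gbr hw ha rfl))
      rwa [neg_add, ← hu, add_neg_cancel_comm]

theorem card_subsums {p : ℕ} [hp : Fact p.Prime] (l : List (ZMod p)) (h : ∀ a ∈ l, a ≠ 0) :
    subsums l = Finset.univ ∨ l.length + 1 ≤ (subsums l).card := by
  induction l with
  | nil => right; simp [subsums]
  | cons a l ih =>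
    rcases ih (fun b hb => h b (List.mem_cons_of_mem _ hb)) with h1 | h1
    · left
      rw [subsums, h1]
      simp
    have hne : (subsums l).Nonempty := Finset.card_pos.mp (by omega)
    by_cases h2 : (subsums l).image (a + ·) ⊆ subsums l
    · left
      rw [subsums, Finset.union_eq_left.mpr h2, Finset.eq_univ_iff_forall]
      obtain ⟨b, hb⟩ := hne
      have key : ∀ k : ℕ, (k : ZMod p) * a + b ∈ subsums l := by
        intro k
        induction k with
        | zero => simpa using hb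
        | succ k ih =>
          have := h2 (Finset.mem_image_of_mem _ ih)
          convert this using 1
          push_cast
          ring
      intro x
      have := key ((x - b) / a).val
      rwa [ZMod.natCast_zmod_val, div_mul_cancel₀ _ (h a List.mem_cons_self),
        sub_add_cancel] at this
    · right
      rw [subsums, List.length_cons]
      have : subsums l ⊂ subsums l ∪ (subsums l).image (a + ·) :=
        ⟨Finset.subset_union_left, fun h3 => h2 (Finset.subset_union_right.trans h3)⟩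
      exact le_trans (by omega) (Nat.succ_le_of_lt (Finset.card_lt_card this))

theorem lprod_eq_zero (l : List (ι × L)) (h : ∃ a ∈ l, a.2 = 0) (w : L) : lprod l w = 0 := by
  induction l generalizing w with
  | nil => simp at h
  | cons a l ih =>
    change lprod l ⁅w, a.2⁆ = 0
    obtain ⟨b, hb, hb0⟩ := h
    rcases List.mem_cons.mp hb with rfl | hb
    · rw [hb0, lie_zero, map_zero]
    · exact ih ⟨b, hb, hb0⟩ _

theorem iterate_gbr_le_of_prime {p : ℕ} [hp : Fact p.Prime] {F W W' : ZMod p → AddSubgroup L}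
    (hF0 : F 0 = ⊥) (hW : gbr W F ≤ W) (hW' : gbr W' F ≤ W') (hc : gbr W (gder F) ≤ W')
    (h0 : W 0 = ⊥) : (fun W => gbr W F)^[p - 1] W ≤ W' := by
  apply iterate_gbr_le
  intro l hl hF u w hw
  by_cases h : ∃ a ∈ l, a.1 = 0
  · obtain ⟨a, ha, ha0⟩ := h
    have := hF a ha
    rw [ha0, hF0, AddSubgroup.mem_bot] at this
    rw [lprod_eq_zero l ⟨a, ha, this⟩]
    exact zero_mem _
  apply lprod_mem_of_subsums hW hW' hc h0 l hF u _ w hw
  have : subsums (l.map Prod.fst) = Finset.univ := by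
    rcases card_subsums (l.map Prod.fst) (by
      intro a ha h0
      obtain ⟨b, hb, rfl⟩ := List.mem_map.mp ha
      exact h ⟨b, hb, h0⟩) with h1 | h1
    · exact h1
    · apply Finset.eq_univ_of_card
      have := Finset.card_le_univ (subsums (l.map Prod.fst))
      have := hp.out.pos
      rw [List.length_map, hl] at h1
      rw [ZMod.card] at *
      omega
  rw [this]
  exact Finset.mem_univ _

theorem glcs_gder_ideal {F : ι → AddSubgroup L} (hF : gder F ≤ F) (k : ℕ) :
    glcs (gder F) k ≤ F ∧ gbr (glcs (gder F) k) F ≤ glcs (gder F) k := by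
  induction k with
  | zero => exact ⟨hF, gbr_mono hF le_rfl⟩
  | succ k ih =>
    rw [glcs_succ]
    refine ⟨(gbr_mono ih.1 hF).trans hF, fun i => gbr_le ?_⟩
    intro u v x hx y hy huv
    revert x
    change gbr _ _ u ≤ (gbr _ _ i).comap (rmul y)
    apply gbr_le
    intro u₁ u₂ a ha b hb hu
    change ⁅⁅a, b⁆, y⁆ ∈ gbr (glcs (gder F) k) (gder F) i
    have e : ⁅⁅a, b⁆, y⁆ = ⁅a, ⁅b, y⁆⁆ + ⁅⁅a, y⁆, b⁆ := by
      rw [lie_lie, ← lie_skew ⁅a, y⁆ b, sub_eq_add_neg]
    rw [e]
    apply add_mem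
    · exact lie_mem_gbr ha (lie_mem_gbr (hF _ hb) hy rfl) (by rw [← add_assoc, hu, huv])
    · exact lie_mem_gbr (ih.2 _ (lie_mem_gbr ha hy rfl)) hb (by rw [add_right_comm, hu, huv])

theorem iterate_gbr_mono (F : ι → AddSubgroup L) (m : ℕ) {W W' : ι → AddSubgroup L}
    (h : W ≤ W') : (fun W => gbr W F)^[m] W ≤ (fun W => gbr W F)^[m] W' :=
  Monotone.iterate (f := fun W => gbr W F) (fun _ _ h => gbr_mono h le_rfl) m h

/-- **Kostrikin–Kreknin**: solvable implies nilpotent for prime moduli. -/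
theorem kostrikin {p : ℕ} [hp : Fact p.Prime] (s : ℕ) : ∀ F : ZMod p → AddSubgroup L,
    gder F ≤ F → F 0 = ⊥ → gder^[s] F = ⊥ →
    glcs F (∑ i ∈ Finset.range s, (p - 1) ^ i) = ⊥ := by
  induction s with
  | zero => intro F _ _ h; simpa [glcs] using h
  | succ s ih =>
    intro F hF h0 h
    have h1 := ih (gder F) (gder_closed hF) (eq_bot_iff.mpr (h0 ▸ hF 0)) h
    have key : ∀ k, glcs F ((p - 1) * k + 1) ≤ glcs (gder F) k := by
      intro k
      induction k with
      | zero => exact le_rfl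
      | succ k ihk =>
        have e : (p - 1) * (k + 1) + 1 = (p - 1) + ((p - 1) * k + 1) := by ring
        rw [e, glcs, Function.iterate_add_apply]
        refine (iterate_gbr_mono F _ ihk).trans (iterate_gbr_le_of_prime h0
          (glcs_gder_ideal hF k).2 (glcs_gder_ideal hF _).2 (glcs_succ _ _).ge ?_)
        exact eq_bot_iff.mpr (h0 ▸ (glcs_gder_ideal hF k).1 0)
    rw [Finset.sum_range_succ', pow_zero, eq_bot_iff, ← h1]
    simp only [pow_succ', ← Finset.mul_sum]
    exact key _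

/-- **Higman–Kreknin–Kostrikin.** -/
theorem hkk {p : ℕ} [hp : Fact p.Prime] (F : ZMod p → AddSubgroup L) (hF : gder F ≤ F)
    (h0 : F 0 = ⊥) : glcs F (∑ i ∈ Finset.range (2 ^ (p - 1) - 1), (p - 1) ^ i) = ⊥ :=
  kostrikin _ F hF h0 (kreknin F hF h0)

theorem hkk_three (F : ZMod 3 → AddSubgroup L) (hF : gder F ≤ F) (h0 : F 0 = ⊥) :
    glcs F 2 = ⊥ := by
  rw [eq_bot_iff, glcs_succ, glcs_succ]
  intro i
  apply gbr_le
  intro u v x hx y hy _
  revert x
  change gbr F F u ≤ (⊥ : AddSubgroup L).comap (rmul y)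
  apply gbr_le
  intro u₁ u₂ a ha b hb _
  change ⁅⁅a, b⁆, y⁆ ∈ (⊥ : AddSubgroup L)
  have hz : ∀ {w : ZMod 3} {z : L}, z ∈ F w → w = 0 → z = 0 := by
    rintro w z hz rfl
    rwa [h0] at hz
  have hab := hF _ (lie_mem_gbr ha hb rfl)
  have hay := hF _ (lie_mem_gbr ha hy rfl)
  have hby := hF _ (lie_mem_gbr hb hy rfl)
  have haby := hF _ (lie_mem_gbr hab hy rfl)
  rw [AddSubgroup.mem_bot]
  have : ∀ u₁ u₂ v : ZMod 3, u₁ = 0 ∨ u₂ = 0 ∨ v = 0 ∨ u₁ + u₂ = 0 ∨ u₁ + u₂ + v = 0 ∨
      (u₁ + v = 0 ∧ u₂ + v = 0) := by decide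
  rcases this u₁ u₂ v with h | h | h | h | h | h
  · rw [hz ha h, zero_lie, zero_lie]
  · rw [hz hb h, lie_zero, zero_lie]
  · rw [hz hy h, lie_zero]
  · rw [hz hab h, zero_lie]
  · exact hz haby h
  · rw [lie_lie, hz hay h.1, hz hby h.2, lie_zero, lie_zero, sub_zero]

end Cfsg.Agent.H19
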