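import Mathlib.Algebra.Lie.BaseChange
import Mathlib.Algebra.Lie.Quotient
import Mathlib.Algebra.MonoidAlgebra.Basic
import Cfsg.Agent.H19.Kreknin
import Cfsg.Agent.H19.AssocLie

/-! Transfer of nilpotency theorems for `ℤ/p`-graded Lie rings to Lie rings and groups with an
automorphism of order `p`. -/

set_option autoImplicit false

namespace Cfsg.Agent.H19

open scoped TensorProduct commutatorElement

universe u

/-- Every `ℤ/p`-graded Lie ring with trivial zero component is nilpotent of class at most `c`. -/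
def GradedNil (p c : ℕ) : Prop :=
  ∀ (M : Type u) [LieRing M] (F : ZMod p → AddSubgroup M), gder F ≤ F → F 0 = ⊥ → glcs F c = ⊥

theorem gradedNil_hkk (p : ℕ) [Fact p.Prime] :
    GradedNil.{u} p (∑ i ∈ Finset.range (2 ^ (p - 1) - 1), (p - 1) ^ i) :=
  fun _ _ F hF h0 => hkk F hF h0

theorem gradedNil_three : GradedNil.{u} 3 2 := fun _ _ F hF h0 => hkk_three F hF h0

theorem lie_mem_iSup_gbr {M ι : Type*} [LieRing M] [AddCommGroup ι] {W F : ι → AddSubgroup M}
    {x y : M} (hx : x ∈ ⨆ i, W i) (hy : y ∈ ⨆ i, F i) : ⁅x, y⁆ ∈ ⨆ i, gbr W F i := by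
  induction hx using AddSubgroup.iSup_induction' with
  | h1 => rw [zero_lie]; exact zero_mem _
  | hadd a b _ _ ha hb => rw [add_lie]; exact add_mem ha hb
  | hp i a ha =>
    induction hy using AddSubgroup.iSup_induction' with
    | h1 => rw [lie_zero]; exact zero_mem _
    | hadd a b _ _ ha hb => rw [lie_add]; exact add_mem ha hb
    | hp j b hb => exact AddSubgroup.mem_iSup_of_mem (i + j) (lie_mem_gbr ha hb rfl)

theorem lie_transfer_aux {L M : Type u} [LieRing L] [LieRing M] {p c : ℕ} [hp : Fact p.Prime]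
    (hc : GradedNil.{u} p c) (α : L →+ L) (hα : ∀ a b, α ⁅a, b⁆ = ⁅α a, α b⁆)
    (hαp : ∀ v, α^[p] v = v) (m : ℕ) (hm : ∀ v, m • ∑ k ∈ Finset.range p, α^[k] v = 0)
    {w : L} (hw : w ∈ glcs (fun _ : PUnit.{1} => (⊤ : AddSubgroup L)) c PUnit.unit)
    {A : Type} [CommRing A] (χ : ZMod p → A) (hχ : ∀ i j, χ i * χ j = χ (i + j)) (hχ0 : χ 0 = 1)
    (φ : A →+ ℤ) (e1 : ∀ i, φ (χ i) = if i = 1 then 1 else 0)
    [LieAlgebra A M] (t : A →+ L →+ M) (ht1 : ∀ a b v, a • t b v = t (a * b) v)
    (ht2 : ∀ a b v w, ⁅t a v, t b w⁆ = t (a * b) ⁅v, w⁆)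
    (hind : ∀ (P : M → Prop) (x : M), P 0 → (∀ a v, P (t a v)) → (∀ x y, P x → P y → P (x + y)) →
      P x)
    (β : M →ₗ[A] M) (hβ : ∀ a v, β (t a v) = t a (α v))
    (ψ : M →+ L) (hψ : ∀ a v, ψ (t a v) = φ a • v) :
    (m * p * p ^ c) • w = 0 := by
  let s : A := ∑ i, χ i
  have hs : ∀ j, χ j * s = s := by
    intro j
    simp only [s, Finset.mul_sum, hχ]
    exact Equiv.sum_comp (Equiv.addLeft j) χ
  let e : A := p - s
  have he : e * e = p • e := by
    have : s * s = p • s := by
      conv_lhs => enter [1]; unfold s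
      simp only [Finset.sum_mul, hs, Finset.sum_const, Finset.card_univ, ZMod.card]
    simp only [e, nsmul_eq_mul] at this ⊢
    linear_combination this
  have hβi : ∀ (k : ℕ) (a : A) (v : L), β^[k] (t a v) = t a (α^[k] v) := by
    intro k a v
    induction k with
    | zero => rfl
    | succ k ih => rw [Function.iterate_succ_apply', Function.iterate_succ_apply', ih, hβ]
  have hβl : ∀ x y, β ⁅x, y⁆ = ⁅β x, β y⁆ := by
    intro x y
    refine hind (fun x => β ⁅x, y⁆ = ⁅β x, β y⁆) x (by simp) (fun a v => ?_) fun a b ha hb => ?_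
    · refine hind (fun y => β ⁅t a v, y⁆ = ⁅β (t a v), β y⁆) y (by simp) (fun b w => ?_)
        fun a b ha hb => ?_
      · rw [ht2, hβ, hβ, hβ, ht2, hα]
      · rw [lie_add, map_add, map_add, lie_add, ha, hb]
    · rw [add_lie, map_add, map_add, add_lie, ha, hb]
  have hN : ∀ x : M, m • ∑ k ∈ Finset.range p, β^[k] x = 0 := by
    intro x
    refine hind (fun x => m • ∑ k ∈ Finset.range p, β^[k] x = 0) x (by simp [iterate_map_zero])
      (fun a v => ?_) fun a b ha hb => ?_
    · simp only [hβi]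
      rw [← map_sum, ← map_nsmul, hm, map_zero]
    · simp only [iterate_map_add, Finset.sum_add_distrib, nsmul_add, ha, hb, add_zero]
  let F : ZMod p → AddSubgroup M := fun i =>
    { carrier := {x | β x = χ i • x}
      zero_mem' := by simp
      add_mem' := fun {a b} (ha : β a = _) (hb : β b = _) => by
        change β (a + b) = _
        rw [map_add, ha, hb, smul_add]
      neg_mem' := fun {a} (ha : β a = _) => by
        change β (-a) = _
        rw [map_neg, ha, smul_neg] }
  have hF : ∀ i x, x ∈ F i ↔ β x = χ i • x := fun _ _ => Iff.rfl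
  let J : LieIdeal A M :=
    { carrier := {x | (m * p) • x = 0}
      zero_mem' := by simp
      add_mem' := fun {a b} (ha : _ = _) (hb : _ = _) => by
        change (m * p) • (a + b) = 0
        rw [nsmul_add, ha, hb, add_zero]
      smul_mem' := fun a b (hb : _ = _) => by
        change (m * p) • (a • b) = 0
        rw [smul_comm, hb, smul_zero]
      lie_mem := fun {a b} (hb : _ = _) => by
        change (m * p) • ⁅a, b⁆ = 0
        rw [← lie_nsmul, hb, lie_zero] }
  let π : M →+ M ⧸ J := (LieSubmodule.Quotient.mk' J).toLinearMap.toAddMonoidHom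
  have hπ : ∀ x y, π ⁅x, y⁆ = ⁅π x, π y⁆ := fun x y => rfl
  have hπ0 : ∀ x, π x = 0 ↔ (m * p) • x = 0 := fun x => LieSubmodule.Quotient.mk_eq_zero J
  let F' : ZMod p → AddSubgroup (M ⧸ J) := fun i => (F i).map π
  have h1 := hc _ F' (by
    intro i
    apply gbr_le
    rintro u v _ ⟨x, hx, rfl⟩ _ ⟨y, hy, rfl⟩ rfl
    refine ⟨⁅x, y⁆, ?_, hπ x y⟩
    rw [SetLike.mem_coe, hF] at hx hy ⊢
    rw [hβl, hx, hy, smul_lie, lie_smul, smul_smul, hχ]) (by
    rw [eq_bot_iff]
    rintro _ ⟨x, hx, rfl⟩
    rw [SetLike.mem_coe, hF, hχ0, one_smul] at hx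
    rw [AddSubgroup.mem_bot, hπ0]
    have := hN x
    simp only [Function.iterate_fixed hx, Finset.sum_const, Finset.card_range] at this
    rwa [mul_nsmul'])
  have h2 : ∀ v : L, π (t e v) ∈ ⨆ i, F' i := by
    intro v
    have hcomp : ∀ i : ZMod p, ∑ k ∈ Finset.range p, t (χ (-i * k)) (α^[k] v) ∈ F i := by
      intro i
      let g : ℕ → M := fun k => t (χ (i + -i * k)) (α^[k] v)
      have e1 : ∀ k : ℕ, β (t (χ (-i * k)) (α^[k] v)) = g (k + 1) := by
        intro k
        simp only [hβ, g, Function.iterate_succ_apply']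
        congr 3
        push_cast
        ring
      have e2 : ∀ k : ℕ, χ i • (t (χ (-i * k)) (α^[k] v)) = g k := by
        intro k
        rw [ht1, hχ]
      have e3 : g p = g 0 := by simp [g, hαp]
      rw [hF, map_sum, Finset.smul_sum]
      simp only [e1, e2]
      have := (Finset.sum_range_succ g p).symm.trans (Finset.sum_range_succ' g p)
      rw [e3] at this
      exact (add_right_cancel this).symm
    have hsum : ∑ i : ZMod p, ∑ k ∈ Finset.range p, t (χ (-i * k)) (α^[k] v) =
        t e v + t s (∑ k ∈ Finset.range p, α^[k] v) := by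
      rw [Finset.sum_comm, map_sum]
      simp only [← AddMonoidHom.finsetSum_apply, ← map_sum]
      obtain ⟨q, hq⟩ : ∃ q, p = q + 1 := ⟨p - 1, by have := hp.out.pos; omega⟩
      have e1 : ∀ f : ℕ → M, ∑ k ∈ Finset.range p, f k =
          ∑ k ∈ Finset.range q, f (k + 1) + f 0 := fun f => by
        rw [← Finset.sum_range_succ', ← hq]
      have e2 : ∀ f : ℕ → L, ∑ k ∈ Finset.range p, f k =
          ∑ k ∈ Finset.range q, f (k + 1) + f 0 := fun f => by
        rw [← Finset.sum_range_succ', ← hq]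
      rw [e1, e2, map_add, map_sum (t s), add_left_comm]
      congr 1
      · apply Finset.sum_congr rfl
        intro k hk
        congr 2
        have h0 : -((k + 1 : ℕ) : ZMod p) ≠ 0 := by
          rw [neg_ne_zero, Ne, ZMod.natCast_eq_zero_iff]
          intro h
          have := Nat.le_of_dvd (Nat.succ_pos k) h
          have := Finset.mem_range.mp hk
          omega
        simp only [neg_mul_comm]
        exact Equiv.sum_comp (Equiv.mulRight₀ _ h0) χ
      · rw [Function.iterate_zero_apply, ← AddMonoidHom.add_apply, ← map_add]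
        congr 2
        simp [e, hχ0]
    have h3 : π (t s (∑ k ∈ Finset.range p, α^[k] v)) = 0 := by
      rw [hπ0, mul_nsmul, ← map_nsmul, hm, map_zero, nsmul_zero]
    have h4 := congrArg π hsum
    rw [map_add, h3, add_zero] at h4
    rw [← h4, map_sum]
    exact sum_mem fun i _ => AddSubgroup.mem_iSup_of_mem i ⟨_, hcomp i, rfl⟩
  have h3 : ∀ (c : ℕ), ∀ w ∈ glcs (fun _ : PUnit.{1} => (⊤ : AddSubgroup L)) c PUnit.unit,
      π (t (p ^ c • e) w) ∈ ⨆ i, glcs F' c i := by
    intro c
    induction c with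
    | zero => intro w _; simpa [glcs] using h2 w
    | succ c ih =>
      rw [glcs_succ, glcs_succ]
      change gbr _ _ _ ≤ (⨆ i, gbr (glcs F' c) F' i).comap (π.comp (t (p ^ (c + 1) • e)))
      apply gbr_le
      intro u v x hx y _ _
      have := lie_mem_iSup_gbr (ih x hx) (h2 y)
      rw [← hπ, ht2, smul_mul_assoc, he, smul_smul, ← pow_succ] at this
      exact this
  have h4 := h3 c w hw
  simp only [h1, Pi.bot_apply, iSup_bot, AddSubgroup.mem_bot, hπ0] at h4
  have hφ : φ e = -1 := by
    have e2 : (p : A) = p • χ 0 := by rw [hχ0, nsmul_one]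
    simp only [e, s, map_sub, map_sum, e2, map_nsmul, e1]
    simp
  have h5 := congrArg ψ h4
  rw [map_nsmul, hψ, map_nsmul, hφ, map_zero, smul_assoc, neg_smul, one_smul, smul_smul, smul_neg,
    neg_eq_zero] at h5
  exact h5

theorem lie_transfer {L : Type u} [LieRing L] {p c : ℕ} [hp : Fact p.Prime]
    (hc : GradedNil.{u} p c) (α : L →+ L) (hα : ∀ a b, α ⁅a, b⁆ = ⁅α a, α b⁆)
    (hαp : ∀ v, α^[p] v = v) (m : ℕ) (hm : ∀ v, m • ∑ k ∈ Finset.range p, α^[k] v = 0)
    {w : L} (hw : w ∈ glcs (fun _ : PUnit.{1} => (⊤ : AddSubgroup L)) c PUnit.unit) :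
    (m * p * p ^ c) • w = 0 := by
  let φ : AddMonoidAlgebra ℤ (ZMod p) →+ ℤ := (Finsupp.applyAddHom (1 : ZMod p)).comp
      (AddMonoidAlgebra.coeffAddEquiv : AddMonoidAlgebra ℤ (ZMod p) ≃+ _).toAddMonoidHom
  exact lie_transfer_aux (M := AddMonoidAlgebra ℤ (ZMod p) ⊗[ℤ] L) hc α hα hαp m hm hw
    (A := AddMonoidAlgebra ℤ (ZMod p)) (fun i => AddMonoidAlgebra.single i 1)
    (fun i j => by simp [AddMonoidAlgebra.single_mul_single]) rfl φ
    (fun i => by simp [φ, Finsupp.single_apply])
    (AddMonoidHom.mk' (fun a => AddMonoidHom.mk' (fun v => a ⊗ₜ v) (TensorProduct.tmul_add a))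
      fun a b => AddMonoidHom.ext fun v => TensorProduct.add_tmul a b v)
    (fun a b v => rfl) (fun a b v w => rfl)
    (fun P x h0 h1 h2 => TensorProduct.induction_on x h0 h1 h2)
    (α.toIntLinearMap.baseChange _) (fun a v => rfl)
    ((TensorProduct.lid ℤ L).toLinearMap ∘ₗ φ.toIntLinearMap.rTensor L).toAddMonoidHom
    (fun a v => rfl)

theorem cls_mem_glcs {G : Type u} [Group G] (c : ℕ) : ∀ x ∈ gam G c,
    cls c x ∈ glcs (fun _ : PUnit.{1} => (⊤ : AddSubgroup (AL G))) c PUnit.unit := by
  induction c with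
  | zero => intro x _; exact AddSubgroup.mem_top _
  | succ c ih =>
    intro x hx
    rw [glcs_succ]
    have hx' := (Subgroup.mem_lowerCentralSeries_succ_iff _ _ _).mp hx
    induction hx' using Subgroup.closure_induction with
    | one => rw [cls_one]; exact zero_mem _
    | mul a b ha hb iha ihb => rw [cls_mul ha hb]; exact add_mem (iha ha) (ihb hb)
    | inv a ha iha => rw [cls_inv ha]; exact neg_mem (iha ha)
    | mem a ha =>
      obtain ⟨y, hy, z, hz, rfl⟩ := ha
      have := AL.lie_cls hy (j := 0) hz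
      rw [add_zero] at this
      rw [← this]
      exact lie_mem_gbr (v := PUnit.unit) (ih y hy) (AddSubgroup.mem_top _) rfl

/-- If the fixed points of `α` in the lower central factors have exponent dividing `m`, the
`c`-th factor has exponent dividing `m p^(c+1)`. -/
theorem group_transfer {G : Type u} [Group G] {p c : ℕ} [hp : Fact p.Prime]
    (hc : GradedNil.{u} p c) (α : G →* G) (hαp : ∀ x, α^[p] x = x) (m : ℕ)
    (hm : ∀ j, ∀ x ∈ gam G j, (α x)⁻¹ * x ∈ gam G (j + 1) → x ^ m ∈ gam G (j + 1)) :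
    ∀ x ∈ gam G c, x ^ (m * p * p ^ c) ∈ gam G (c + 1) := by
  have hi : ∀ (k j : ℕ), ∀ x ∈ gam G j, α^[k] x ∈ gam G j ∧
      (AL.map α)^[k] (cls j x) = cls j (α^[k] x) := by
    intro k j x hx
    induction k with
    | zero => exact ⟨hx, rfl⟩
    | succ k ih =>
      rw [Function.iterate_succ_apply', Function.iterate_succ_apply', ih.2, AL.map_cls α ih.1]
      exact ⟨map_mem_gam α ih.1, rfl⟩
  have hp' : ∀ v, (AL.map α)^[p] v = v := by
    intro v
    induction v using AL.induction_on with
    | h0 => exact iterate_map_zero _ _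
    | h1 j x hx => rw [(hi p j x hx).2, hαp]
    | h2 a b ha hb => rw [iterate_map_add, ha, hb]
  intro x hx
  rw [← cls_eq_zero_iff (pow_mem hx _), cls_pow hx]
  refine lie_transfer hc (AL.map α) (AL.map_lie α) hp' m (fun v => ?_) (cls_mem_glcs c x hx)
  induction v using AL.induction_on with
  | h0 => simp [iterate_map_zero]
  | h2 a b ha hb =>
    simp only [iterate_map_add, Finset.sum_add_distrib, nsmul_add, ha, hb, add_zero]
  | h1 j y hy =>
    have h1 : ∀ r : ℕ, ∃ z ∈ gam G j,
        ∑ k ∈ Finset.range r, (AL.map α)^[k] (cls j y) = cls j z := by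
      intro r
      induction r with
      | zero => exact ⟨1, one_mem _, by rw [cls_one, Finset.sum_range_zero]⟩
      | succ r ih =>
        obtain ⟨z, hz, h⟩ := ih
        exact ⟨_, mul_mem hz (hi r j y hy).1, by
          rw [Finset.sum_range_succ, h, (hi r j y hy).2, cls_mul hz (hi r j y hy).1]⟩
    obtain ⟨z, hz, h⟩ := h1 p
    have h2 : AL.map α (cls j z) = cls j z := by
      rw [← h, map_sum]
      have := (Finset.sum_range_succ (fun k => (AL.map α)^[k] (cls j y)) p).symm.trans
        (Finset.sum_range_succ' _ p)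
      rw [hp'] at this
      simp only [Function.iterate_succ_apply'] at this
      exact (add_right_cancel this).symm
    have hz' := map_mem_gam α hz
    rw [h, ← cls_pow hz, cls_eq_zero_iff (pow_mem hz _)]
    apply hm j z hz
    rw [← cls_eq_zero_iff (mul_mem (inv_mem hz') hz), cls_mul (inv_mem hz') hz, cls_inv hz',
      ← AL.map_cls α hz, h2, neg_add_cancel]

end Cfsg.Agent.H19
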