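import Cfsg.Agent.H49.Core
import Cfsg.Agent.H49.Hall
import Cfsg.Agent.H5.Burnside
import Cfsg.Agent.H85.AlmostSimple

/-! Groups in which the normaliser of every nontrivial two-prime subgroup is maximal. -/

set_option autoImplicit false
set_option linter.style.haveILetI false

namespace Cfsg.Agent.H19

open Subgroup Cfsg.Agent.H49

universe u

section defs

variable {G : Type*} [Group G]

/-- The order of `H` has at most two prime divisors. -/
def TP (H : Subgroup G) : Prop := ∃ p q : ℕ, p.Prime ∧ q.Prime ∧ IsPi {p, q} H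

/-- Normalisers of nontrivial two-prime subgroups are maximal. -/
def MX (X : Type*) [Group X] : Prop := ∀ H : Subgroup X, H ≠ ⊥ → TP H → IsCoatom 𝒩(H)

theorem TP.of_le {H K : Subgroup G} (h : TP K) (hle : H ≤ K) : TP H :=
  let ⟨p, q, hp, hq, h⟩ := h; ⟨p, q, hp, hq, h.of_le hle⟩

theorem TP.map {G' : Type*} [Group G'] {H : Subgroup G} (h : TP H) (f : G →* G') : TP (H.map f) :=
  let ⟨p, q, hp, hq, h⟩ := h; ⟨p, q, hp, hq, h.map f⟩

theorem tp_of_pi {p : ℕ} (hp : p.Prime) {H : Subgroup G} (h : IsPi {p} H) : TP H :=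
  ⟨p, p, hp, hp, h.mono (by simp)⟩

theorem tp_sup {p q : ℕ} (hp : p.Prime) (hq : q.Prime) {P Q : Subgroup G} (hP : IsPi {p} P)
    (hQ : IsPi {q} Q) (hn : P ≤ 𝒩(Q) ∨ Q ≤ 𝒩(P)) : TP (P ⊔ Q) :=
  ⟨p, q, hp, hq, (hP.mono (by simp)).sup (hQ.mono (by simp)) hn⟩

theorem pi_zpowers {p : ℕ} (hp : p.Prime) {x : G} (hx : orderOf x = p) : IsPi {p} (zpowers x) :=
  isPi_of_card_eq_prime hp (by rw [Nat.card_zpowers, hx])

theorem zpowers_ne_bot_of {p : ℕ} (hp : p.Prime) {x : G} (hx : orderOf x = p) : zpowers x ≠ ⊥ := by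
  rw [zpowers_ne_bot]
  rintro rfl
  rw [orderOf_one] at hx
  exact hp.one_lt.ne hx

theorem zp_cent {a b : G} (h : a * b = b * a) : zpowers a ≤ 𝒞(zpowers b) := by
  rw [cent_zpowers, zpowers_le]
  exact mem_cent1.2 h

theorem mem_norm_of_comm {a w : G} (h : w * a = a * w) : w ∈ 𝒩(zpowers a) :=
  cent_le_norm _ (by rw [cent_zpowers]; exact mem_cent1.2 h)

theorem conj_mem_of_mem_norm {H : Subgroup G} {w a : G} (hw : w ∈ 𝒩(H)) (ha : a ∈ H) :
    w * a * w⁻¹ ∈ H := (mem_normalizer_iff.1 hw a).1 ha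

theorem mem_zpowers_two {a b : G} (ha : a * a = 1) (hb : b ∈ zpowers a) : b = 1 ∨ b = a := by
  obtain ⟨n, rfl⟩ := mem_zpowers_iff.1 hb
  have h2 : a ^ (2 : ℤ) = 1 := by rw [zpow_two, ha]
  rcases Int.even_or_odd' n with ⟨k, rfl | rfl⟩
  · left; rw [zpow_mul, h2, one_zpow]
  · right; rw [zpow_add, zpow_mul, h2, one_zpow, one_mul, zpow_one]

theorem comm_of_norm_two {a w : G} (ha : a * a = 1) (hw : w ∈ 𝒩(zpowers a)) : w * a = a * w := by
  rcases mem_zpowers_two ha (conj_mem_of_mem_norm hw (mem_zpowers a)) with h | h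
  · obtain rfl : a = 1 := by simpa using h
    simp
  · calc w * a = w * a * w⁻¹ * w := by group
      _ = a * w := by rw [h]

theorem sq_of_order_two {a : G} (ha : orderOf a = 2) : a * a = 1 := by
  rw [← pow_two, ← ha, pow_orderOf_eq_one]

theorem order_two_of {a : G} (ha : a * a = 1) (h1 : a ≠ 1) : orderOf a = 2 :=
  haveI : Fact (Nat.Prime 2) := ⟨Nat.prime_two⟩
  orderOf_eq_prime (by rw [pow_two, ha]) h1

theorem eq_one_of_mem_zp3 {x b : G} (hx : orderOf x = 3) (hb : b ∈ zpowers x) (h2 : b * b = 1) :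
    b = 1 := by
  have h3 : b ^ 3 = 1 := by
    obtain ⟨n, rfl⟩ := mem_zpowers_iff.1 hb
    rw [← zpow_natCast, ← zpow_mul, mul_comm, zpow_mul, zpow_natCast, ← hx, pow_orderOf_eq_one,
      one_zpow]
  calc b = b ^ 3 * (b * b)⁻¹ := by group
    _ = 1 := by rw [h3, h2]; simp

/-- Two distinct commuting involutions. -/
structure Kl (z t : G) : Prop where
  zz : z * z = 1
  tt : t * t = 1
  comm : z * t = t * z
  z1 : z ≠ 1
  t1 : t ≠ 1
  zt : z ≠ t

/-- The four-group. -/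
def Kl.V {z t : G} (h : Kl z t) : Subgroup G where
  carrier := {v | v = 1 ∨ v = z ∨ v = t ∨ v = z * t}
  one_mem' := Or.inl rfl
  mul_mem' := by
    have e1 : z * (z * t) = t := by rw [← mul_assoc, h.zz, one_mul]
    have e2 : t * (z * t) = z := by rw [← mul_assoc, ← h.comm, mul_assoc, h.tt, mul_one]
    have e3 : z * t * z = t := by rw [mul_assoc, ← h.comm, e1]
    have e4 : z * t * t = z := by rw [mul_assoc, h.tt, mul_one]
    have e5 : z * t * (z * t) = 1 := by rw [← mul_assoc, e3, h.tt]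
    rintro a b (rfl | rfl | rfl | rfl) (rfl | rfl | rfl | rfl) <;>
      simp [h.zz, h.tt, e1, e2, e3, e4, e5, ← h.comm]
  inv_mem' := by
    have e5 : z * t * (z * t) = 1 := by
      rw [← mul_assoc, mul_assoc z t z, ← h.comm, ← mul_assoc, h.zz, one_mul, h.tt]
    rintro a (rfl | rfl | rfl | rfl)
    · simp
    · simp [inv_eq_of_mul_eq_one_right h.zz]
    · simp [inv_eq_of_mul_eq_one_right h.tt]
    · rw [inv_eq_of_mul_eq_one_right e5]; simp

namespace Kl

variable {z t : G} (h : Kl z t)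
include h

theorem mem_V {v : G} : v ∈ h.V ↔ v = 1 ∨ v = z ∨ v = t ∨ v = z * t := Iff.rfl
theorem z_mem : z ∈ h.V := Or.inr (Or.inl rfl)
theorem t_mem : t ∈ h.V := Or.inr (Or.inr (Or.inl rfl))
theorem zt_mem : z * t ∈ h.V := Or.inr (Or.inr (Or.inr rfl))
theorem ztzt : z * t * (z * t) = 1 := by
  rw [← mul_assoc, mul_assoc z t z, ← h.comm, ← mul_assoc, h.zz, one_mul, h.tt]
theorem zt1 : z * t ≠ 1 := fun e => h.zt (by
  calc z = z * t * t := by rw [mul_assoc, h.tt, mul_one]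
    _ = t := by rw [e, one_mul])
theorem ztz : z * t ≠ z := by simpa using h.t1
theorem ztt : z * t ≠ t := by simpa using h.z1
theorem V_ne_bot : h.V ≠ ⊥ := ne_bot_iff_exists.2 ⟨z, h.z_mem, h.z1⟩

theorem sq_V {v : G} (hv : v ∈ h.V) : v * v = 1 := by
  rcases hv with rfl | rfl | rfl | rfl
  · simp
  · exact h.zz
  · exact h.tt
  · exact h.ztzt

theorem V_le {K : Subgroup G} (hz : z ∈ K) (ht : t ∈ K) : h.V ≤ K := by
  rintro v (rfl | rfl | rfl | rfl)
  exacts [K.one_mem, hz, ht, K.mul_mem hz ht]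

theorem pi_V [Finite G] : IsPi {2} h.V := isPi_of_elt fun v hv =>
  (isPiNat_prime (π := {2}) Nat.prime_two).2 rfl |>.of_dvd
    (orderOf_dvd_of_pow_eq_one (by rw [pow_two, h.sq_V hv]))

theorem tp_V [Finite G] : TP h.V := tp_of_pi Nat.prime_two h.pi_V

theorem card_V : Nat.card h.V = 4 := by
  have : (h.V : Set G) = {1, z, t, z * t} := by ext v; simp [h.mem_V]
  rw [← SetLike.coe_sort_coe, this, Nat.card_coe_set_eq]
  rw [Set.ncard_insert_of_notMem, Set.ncard_insert_of_notMem, Set.ncard_pair h.ztt.symm]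
  · simp [h.zt, h.ztz.symm]
  · simp [h.z1.symm, h.t1.symm, h.zt1.symm]

theorem map {G' : Type*} [Group G'] (f : G →* G') (hf : Function.Injective f) : Kl (f z) (f t) :=
  ⟨by rw [← map_mul, h.zz, map_one], by rw [← map_mul, h.tt, map_one],
    by rw [← map_mul, h.comm, map_mul], by simpa [map_eq_one_iff f hf] using h.z1,
    by simpa [map_eq_one_iff f hf] using h.t1, fun e => h.zt (hf e)⟩

theorem map_V {G' : Type*} [Group G'] (f : G →* G') (hf : Function.Injective f) :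
    h.V.map f = (h.map f hf).V := by
  refine le_antisymm (map_le_iff_le_comap.2 (h.V_le (h.map f hf).z_mem (h.map f hf).t_mem)) ?_
  exact (h.map f hf).V_le (mem_map_of_mem f h.z_mem) (mem_map_of_mem f h.t_mem)

theorem mem_norm [Finite G] {g : G} (hz : g * z * g⁻¹ ∈ h.V) (ht : g * t * g⁻¹ ∈ h.V) :
    g ∈ 𝒩(h.V) :=
  mem_norm_of_cj_le (cj_le_iff.2 (h.V_le (mem_cj.2 (by simpa using hz)) (mem_cj.2 (by simpa using ht))))

theorem comm_V {c v : G} (hz : c * z = z * c) (ht : c * t = t * c) (hv : v ∈ h.V) :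
    c * v = v * c := by
  rcases hv with rfl | rfl | rfl | rfl
  · simp
  · exact hz
  · exact ht
  · rw [← mul_assoc, hz, mul_assoc, ht, mul_assoc]

end Kl

end defs

variable {G : Type u} [Group G] [Finite G]

theorem TP.solvable {H : Subgroup G} (h : TP H) : Group.IsSolvable H := by
  obtain ⟨q, r, hq, hr, hH⟩ := h
  obtain ⟨a, b, e, ha, hb⟩ := exists_pi_factor {q} (card_pos' H).ne'
  have hb' : IsPiNat {r} b := fun s hs hd => by
    rcases hH s hs (e ▸ hd.mul_left a) with h | h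
    · exact absurd h (hb s hs hd)
    · exact h
  have h0 : a * b ≠ 0 := e ▸ (card_pos' H).ne'
  obtain ⟨i, rfl⟩ := (isPiNat_singleton hq (left_ne_zero_of_mul h0)).1 ha
  obtain ⟨j, rfl⟩ := (isPiNat_singleton hr (right_ne_zero_of_mul h0)).1 hb'
  exact H5.isSolvable_of_card_dvd_prime_pow_mul hq hr e.dvd

theorem exists_prime_pow {w : G} (hw : w ≠ 1) :
    ∃ r : ℕ, r.Prime ∧ ∃ v ∈ zpowers w, orderOf v = r := by
  obtain ⟨r, hr, hd⟩ := exists_prime_dvd_card (zpowers_ne_bot.2 hw)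
  exact ⟨r, hr, exists_orderOf_eq_of_dvd_card hr hd⟩

theorem comm_of_mem_zpowers {G : Type*} [Group G] {w v c : G} (hv : v ∈ zpowers w)
    (h : c * w = w * c) : c * v = v * c := by
  obtain ⟨n, rfl⟩ := mem_zpowers_iff.1 hv
  exact (Commute.zpow_right h n).eq

namespace MX

variable (h : MX G)
include h

omit [Finite G] in
theorem eqN {H C : Subgroup G} (hH0 : H ≠ ⊥) (hH : TP H) (hC0 : C ≠ ⊥) (hC : TP C)
    (hle : 𝒩(H) ≤ 𝒩(C)) : 𝒩(C) ≤ 𝒩(H) :=
  (((h H hH0 hH).le_iff.1 hle).resolve_left (h C hC0 hC).1).le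

theorem cp {p q : ℕ} (hp : p.Prime) (hq : q.Prime) (hpq : q ≠ p) {P Q : Subgroup G} (hP0 : P ≠ ⊥)
    (hP : IsPi {p} P) (hQ : IsPi {q} Q) (hn : Q ≤ 𝒩(P)) : 𝒩(P) ≤ 𝒩(P ⊔ Q) := by
  refine h.eqN (ne_bot_mono le_sup_left hP0) (tp_sup hp hq hP hQ (Or.inr hn)) hP0 (tp_of_pi hp hP) ?_
  exact (hall_sup_left hP (hQ.compl_singleton_of_ne hpq) (Or.inr hn)).norm_of_normal
    (sup_le le_normalizer hn)

theorem lemE {p q : ℕ} (hp : p.Prime) (hq : q.Prime) (hpq : q ≠ p) {P Q : Subgroup G} (hP0 : P ≠ ⊥)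
    (hP : IsPi {p} P) (hQ : IsPi {q} Q) (hc : Q ≤ 𝒞(P)) : 𝒩(P) ≤ 𝒩(Q) := by
  refine (h.cp hp hq hpq hP0 hP hQ (norm_of_cent hc)).trans ?_
  exact (hall_sup_right (hP.compl_singleton_of_ne hpq.symm) hQ
    (Or.inr (norm_of_cent hc))).norm_of_normal (sup_le (norm_of_cent (cent_symm hc)) le_normalizer)

/-- Commuting elements of distinct prime orders. -/
theorem lemE' {p q : ℕ} (hp : p.Prime) (hq : q.Prime) (hpq : q ≠ p) {a b : G} (ha : orderOf a = p)
    (hb : orderOf b = q) (hc : b * a = a * b) {w : G} (hw : w ∈ 𝒩(zpowers a)) :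
    w ∈ 𝒩(zpowers b) :=
  h.lemE hp hq hpq (zpowers_ne_bot_of hp ha) (pi_zpowers hp ha) (pi_zpowers hq hb) (zp_cent hc) hw

theorem solv_norm {p : ℕ} (hp : p.Prime) {P : Subgroup G} (hP0 : P ≠ ⊥) (hP : IsPi {p} P) :
    Group.IsSolvable 𝒩(P) := by
  set M := 𝒩(P) with hM
  obtain ⟨T, hT⟩ := exists_sylowOf p M
  have hL := H44.solRadOf_isSolvable M
  have hLn := H44.le_normalizer_solRadOf M
  refine solvable_of_le (solvable_sup hL (solvable_of_nilpotent hT.pi.nilpotent)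
    (Or.inr (hT.le.trans hLn))) (le_of_sylowOf_le fun q hq _ => ?_)
  by_cases e : q = p
  · exact ⟨T, e ▸ hT, le_sup_right⟩
  · obtain ⟨Q, hQ⟩ := exists_sylowOf q M
    refine ⟨Q, hQ, (le_sup_right.trans (H44.le_solRadOf (sup_le le_normalizer hQ.le)
      (h.cp hp hq e hP0 hP hQ.pi hQ.le) (tp_sup hp hq hP hQ.pi (Or.inr hQ.le)).solvable)).trans
      le_sup_left⟩

omit [Finite G] in
theorem not_normal {H : Subgroup G} (hH0 : H ≠ ⊥) (hH : TP H) : ¬ H.Normal := fun hn =>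
  (h H hH0 hH).1 (top_le_iff.1 (normal_iff_top_le_norm.1 hn))

theorem fitting_eq_bot : fittingSubgroup G = ⊥ := by
  by_contra hF
  obtain ⟨p, hp, hd⟩ := exists_prime_dvd_card hF
  obtain ⟨P, hP⟩ := exists_sylowOf p (fittingSubgroup G)
  refine h.not_normal (hP.ne_bot hp rfl hd) (tp_of_pi hp hP.pi) (normal_iff_top_le_norm.2 ?_)
  refine le_trans ?_ (nilpotent_hall_norm H44.fitting_isNilpotent hP)
  have := H44.fitting_characteristic (G := G)
  exact normal_iff_top_le_norm.1 inferInstance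

theorem exists_socle [Nontrivial G] :
    ∃ L : Subgroup G, L.Normal ∧ IsSimpleGroup L ∧ ¬ IsMulCommutative L := by
  obtain ⟨-, h1, h2, -⟩ := H85.almostSimple h.fitting_eq_bot fun K L hK hL => by
    by_contra hne
    have hc := hK.commutator_eq_bot_of_ne hL hne
    obtain ⟨p, hp, hd⟩ := exists_prime_dvd_card hL.qs.ne_bot
    obtain ⟨a, haL, ha⟩ := exists_orderOf_eq_of_dvd_card hp hd
    refine hK.qs.not_le_solvable (h.solv_norm hp (zpowers_ne_bot_of hp ha) (pi_zpowers hp ha)) ?_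
    exact norm_of_cent ((H49.commutator_eq_bot_iff.1 hc).trans (cent_anti (zpowers_le.2 haL)))
  exact ⟨_, H44.gfitting_normal, h1, h2⟩

/-- An involution `t` normalising `⟨x⟩`, `x` of order 3. -/
theorem lemD {x t y : G} (hx : orderOf x = 3) (ht : orderOf t = 2) (hn : t ∈ 𝒩(zpowers x))
    (hy : y ∈ 𝒩(zpowers x)) : y * t * y⁻¹ * t ∈ zpowers x := by
  have tt := sq_of_order_two ht
  have hn' : zpowers t ≤ 𝒩(zpowers x) := zpowers_le.2 hn
  have h1 := h.cp Nat.prime_three Nat.prime_two (by norm_num) (zpowers_ne_bot_of Nat.prime_three hx)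
    (pi_zpowers Nat.prime_three hx) (pi_zpowers Nat.prime_two ht) hn' hy
  have h2 := conj_mem_of_mem_norm h1 (mem_sup_right (mem_zpowers t))
  obtain ⟨a, ha, b, hb, e⟩ := (mem_sup_of_norm_left hn').1 h2
  rcases mem_zpowers_two tt hb with rfl | rfl
  · exfalso
    rw [mul_one] at e
    have := eq_one_of_mem_zp3 hx ha (by
      rw [← e]
      calc y * t * y⁻¹ * (y * t * y⁻¹) = y * (t * t) * y⁻¹ := by group
        _ = 1 := by rw [tt]; simp)
    rw [this] at e
    obtain rfl : t = 1 := by simpa using e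
    simp at ht
  · rw [e, mul_assoc, tt, mul_one]
    exact ha

/-- The centraliser of an `A₄` is trivial. -/
theorem cent_A4 {z t y w : G} (hk : Kl z t) (hy : y ^ 3 = 1) (h1 : y * z * y⁻¹ = t)
    (hz : w * z = z * w) (hwy : w * y = y * w) : w = 1 := by
  by_contra hw
  have hyz : y * z ≠ z * y := fun e => hk.zt (by rw [← h1, e]; group)
  have : Fact (Nat.Prime 3) := ⟨Nat.prime_three⟩
  have hy3 : orderOf y = 3 := orderOf_eq_prime hy (by rintro rfl; simp at hyz)
  obtain ⟨r, hr, v, hv, hvr⟩ := exists_prime_pow hw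
  have a1 := comm_of_mem_zpowers hv hz.symm
  have a2 := comm_of_mem_zpowers hv hwy.symm
  by_cases e : r = 3
  · subst e
    exact hyz (comm_of_norm_two hk.zz (h.lemE' hr Nat.prime_two (by norm_num) hvr
      (order_two_of hk.zz hk.z1) a1 (mem_norm_of_comm a2)))
  · have b := h.lemE' hr Nat.prime_three (Ne.symm e) hvr hy3 a2 (mem_norm_of_comm a1)
    have c := mul_mem (conj_mem_of_mem_norm b (mem_zpowers y)) (inv_mem (mem_zpowers y))
    have d : z * y * z⁻¹ * y⁻¹ = z * t := by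
      rw [← h1, inv_eq_of_mul_eq_one_right hk.zz]; group
    rw [d] at c
    exact hk.zt1 (eq_one_of_mem_zp3 hy3 c hk.ztzt)

end MX

end Cfsg.Agent.H19
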