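import Cfsg.Agent.H19.MNb
import Cfsg.Agent.H56.Mod.U33
import Cfsg.Agent.H56.Mod.L33
import Cfsg.Agent.H56.Mod.L211
import Cfsg.Agent.H56.Mod.L213
import Cfsg.Agent.H14.Mathieu
import Cfsg.Agent.H13.SzGroup
import Cfsg.Agent.H13.SzInst
import Cfsg.Agent.H69.PSLRankOne
import Cfsg.Agent.H31.MinL2
import Cfsg.Agent.H29.Transport

/-! The simple groups with solvable 2-locals that occur: only `PSL(2, 13)`. -/

set_option autoImplicit false
set_option linter.style.haveILetI false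

namespace Cfsg.Agent.H19

open Subgroup Cfsg.Agent.H49 Matrix MatrixGroups

universe u

/-- A configuration of commuting elements of orders 2 and 3 with different centralisers. -/
def CfgE (Y : Type*) [Group Y] : Prop :=
  ∃ a b w : Y, orderOf a = 2 ∧ orderOf b = 3 ∧ a * b = b * a ∧ w * b = b * w ∧ w * a ≠ a * w

theorem cfgE_mk {Y : Type*} [Group Y] {a b w : Y} (h1 : a * a = 1) (h2 : a ≠ 1) (h3 : b * (b * b) = 1)
    (h4 : b ≠ 1) (h5 : a * b = b * a) (h6 : w * b = b * w) (h7 : w * a ≠ a * w) : CfgE Y :=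
  haveI : Fact (Nat.Prime 3) := ⟨Nat.prime_three⟩
  ⟨a, b, w, order_two_of h1 h2, orderOf_eq_prime (by rw [pow_three, h3]) h4, h5, h6, h7⟩

theorem CfgE.map {Y L : Type*} [Group Y] [Group L] (h : CfgE Y) (φ : Y →* L)
    (hφ : Function.Injective φ) : CfgE L := by
  obtain ⟨a, b, w, h1, h2, h3, h4, h5⟩ := h
  refine ⟨φ a, φ b, φ w, by rw [orderOf_injective φ hφ, h1], by rw [orderOf_injective φ hφ, h2],
    by rw [← map_mul, h3, map_mul], by rw [← map_mul, h4, map_mul], fun e => h5 (hφ ?_)⟩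
  rw [map_mul, e, map_mul]

/-- The configuration `A₄`, `D₁₂`. -/
def CfgG {Y : Type*} [Group Y] (z t y x : Y) : Prop :=
  Kl z t ∧ y * z * y⁻¹ = t ∧ y * t * y⁻¹ = z * t ∧ y ^ 3 = 1 ∧ orderOf x = 3 ∧ x * z = z * x ∧
    t * x * t⁻¹ = x⁻¹

section perm

open H14

variable {α : Type*} {n k M : ℕ} {E : Enc α n k M} {K : Subgroup (Equiv.Perm α)} {Ls : List Lev}

theorem eq_of_pk {g h : K} (e : E.pk g = E.pk h) : g = h := Subtype.ext (E.pk_inj.1 e)

theorem cfgE_of_chain (hK : E.IsChain Ls K) (a b w : ℕ)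
    (hm : H56.memOK k M n Ls [a, b, w] = true)
    (h : comp k M n a a = idP k n ∧ a ≠ idP k n ∧ comp k M n b (comp k M n b b) = idP k n ∧
      b ≠ idP k n ∧ comp k M n a b = comp k M n b a ∧ comp k M n w b = comp k M n b w ∧
      comp k M n w a ≠ comp k M n a w) : CfgE K := by
  have hm := H56.inG_of_memOK hK hm
  obtain ⟨A, hA, rfl⟩ := hm a (by simp)
  obtain ⟨B, hB, rfl⟩ := hm b (by simp)
  obtain ⟨W, hW, rfl⟩ := hm w (by simp)
  simp only [← E.pk_mul, ← E.pk_one, ne_eq, E.pk_inj] at h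
  obtain ⟨h1, h2, h3, h4, h5, h6, h7⟩ := h
  exact cfgE_mk (a := ⟨A, hA⟩) (b := ⟨B, hB⟩) (w := ⟨W, hW⟩) (Subtype.ext h1)
    (fun e => h2 (congrArg Subtype.val e)) (Subtype.ext h3) (fun e => h4 (congrArg Subtype.val e))
    (Subtype.ext h5) (Subtype.ext h6) (fun e => h7 (congrArg Subtype.val e))

theorem cfgG_of_chain (hK : E.IsChain Ls K) (z t y x : ℕ)
    (hm : H56.memOK k M n Ls [z, t, y, x] = true)
    (h : comp k M n z z = idP k n ∧ comp k M n t t = idP k n ∧ comp k M n z t = comp k M n t z ∧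
      z ≠ idP k n ∧ t ≠ idP k n ∧ z ≠ t ∧ comp k M n y z = comp k M n t y ∧
      comp k M n y t = comp k M n (comp k M n z t) y ∧ comp k M n y (comp k M n y y) = idP k n ∧
      comp k M n x (comp k M n x x) = idP k n ∧ x ≠ idP k n ∧ comp k M n x z = comp k M n z x ∧
      comp k M n x (comp k M n t x) = t) :
    ∃ Z T Y X : K, E.pk Z = z ∧ E.pk T = t ∧ E.pk Y = y ∧ CfgG Z T Y X := by
  have hm := H56.inG_of_memOK hK hm
  obtain ⟨Z, hZ, rfl⟩ := hm z (by simp)
  obtain ⟨T, hT, rfl⟩ := hm t (by simp)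
  obtain ⟨Y, hY, rfl⟩ := hm y (by simp)
  obtain ⟨X, hX, rfl⟩ := hm x (by simp)
  simp only [← E.pk_mul, ← E.pk_one, ne_eq, E.pk_inj] at h
  obtain ⟨h1, h2, h3, h4, h5, h6, h7, h8, h9, h10, h11, h12, h13⟩ := h
  haveI : Fact (Nat.Prime 3) := ⟨Nat.prime_three⟩
  refine ⟨⟨Z, hZ⟩, ⟨T, hT⟩, ⟨Y, hY⟩, ⟨X, hX⟩, rfl, rfl, rfl, ⟨Subtype.ext h1, Subtype.ext h2,
    Subtype.ext h3, fun e => h4 (congrArg Subtype.val e), fun e => h5 (congrArg Subtype.val e),
    fun e => h6 (congrArg Subtype.val e)⟩, Subtype.ext ?_, Subtype.ext ?_, Subtype.ext ?_,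
    orderOf_eq_prime (Subtype.ext ?_) (fun e => h11 (congrArg Subtype.val e)), Subtype.ext h12,
    Subtype.ext ?_⟩
  · show Y * Z * Y⁻¹ = T
    rw [h7]; group
  · show Y * T * Y⁻¹ = Z * T
    rw [h8]; group
  · show Y ^ 3 = 1
    rw [pow_three, h9]
  · show X ^ 3 = 1
    rw [pow_three, h10]
  · show T * X * T⁻¹ = X⁻¹
    calc T * X * T⁻¹ = X⁻¹ * (X * (T * X)) * T⁻¹ := by group
      _ = X⁻¹ := by rw [h13]; group

end perm

theorem cfgE_U33 : CfgE H56.U33.K :=
  cfgE_of_chain H56.U33.chain 0xb69cb86cb4788d79e52cc21aa246a71c801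
    0x352ca0c48cbd72086d7a4270d138f21966f 0xba9c246c895d4cca4f38b14f1805f2181ba
    (by decide +kernel) (by decide +kernel)

theorem cfgE_L33 : CfgE H56.L33.K :=
  cfgE_of_chain H56.L33.chain 0x1ba60795423c8 0x3ba184c756920 0x4ba68972153c0
    (by decide +kernel) (by decide +kernel)

theorem cfgE_M11 : CfgE Spor.M11 :=
  cfgE_of_chain H14.m11_chain 0xb5eb3a2170795a38a8d23a5c261020 0xbdaae2b26d52c26a1d037ca2448a00
    0xbd6d35b1c85146689da17ca8281120 (by decide +kernel) (by decide +kernel)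

open Equiv in
theorem cfgE_S6 : CfgE (Perm (Fin 6)) :=
  cfgE_mk (a := swap 3 4) (b := swap 0 1 * swap 1 2) (w := swap 3 4 * swap 4 5)
    (by decide) (by decide) (by decide) (by decide) (by decide) (by decide) (by decide)

open Equiv in
theorem cfgE_A7 : CfgE (alternatingGroup (Fin 7)) :=
  cfgE_mk (a := ⟨swap 3 4 * swap 5 6, by simp⟩) (b := ⟨swap 0 1 * swap 1 2, by simp⟩)
    (w := ⟨swap 3 4 * swap 4 5, by simp⟩)
    (Subtype.ext (by decide)) (fun e => absurd (congrArg Subtype.val e) (by decide))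
    (Subtype.ext (by decide)) (fun e => absurd (congrArg Subtype.val e) (by decide))
    (Subtype.ext (by decide)) (Subtype.ext (by decide))
    (fun e => absurd (congrArg Subtype.val e) (by decide))

theorem cent_up_one {F : Type*} [Field F] :
    𝒞[H69.pr F (H69.up 1)] = (H69.upHom F).range := by
  refine le_antisymm (fun g hg => ?_) ?_
  · obtain ⟨A, rfl⟩ := H69.pr_surjective g
    have hc := mem_cent1.1 hg
    rw [← map_mul, ← map_mul] at hc
    have hd := H69.sl2_det A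
    have key : A.1 1 0 = 0 ∧ A.1 0 0 = A.1 1 1 := by
      rcases H69.pr_eq hc with e | e
      · have e0 := congrArg (fun B : H69.SL2 F => B.1 0 0) e
        have e1 := congrArg (fun B : H69.SL2 F => B.1 0 1) e
        simp only [H69.sl2_mul_apply, H69.up00, H69.up01, H69.up10, H69.up11] at e0 e1
        exact ⟨by linear_combination -e0, by linear_combination e1⟩
      · have e0 := congrArg (fun B : H69.SL2 F => B.1 0 0) e
        have e1 := congrArg (fun B : H69.SL2 F => B.1 0 1) e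
        have e2 := congrArg (fun B : H69.SL2 F => B.1 1 0) e
        simp only [H66.sl2_neg_apply, H69.sl2_mul_apply, H69.up00, H69.up01, H69.up10,
          H69.up11] at e0 e1 e2
        have c0 : A.1 1 0 = 0 := by
          by_contra hc
          have h2 : (2 : F) = 0 := mul_right_cancel₀ hc (by linear_combination e2)
          exact hc (by linear_combination e0 - A.1 0 0 * h2)
        have a0 : A.1 0 0 ≠ 0 := fun h => by
          rw [h, c0] at hd
          simp at hd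
        have h2 : (2 : F) = 0 := mul_right_cancel₀ a0 (by linear_combination e0 - c0)
        exact ⟨c0, by linear_combination e1 - (A.1 0 1 + A.1 1 1) * h2⟩
    obtain ⟨c0, e⟩ := key
    rw [c0, ← e] at hd
    have : A.1 0 0 = 1 ∨ A.1 0 0 = -1 := mul_self_eq_one_iff.1 (by linear_combination hd)
    rcases this with a | a
    · refine H69.mem_upHom.2 ⟨A.1 0 1, congrArg _ (H69.sl2_ext ?_ rfl c0 ?_)⟩
      · exact a
      · exact e ▸ a
    · refine H69.mem_upHom.2 ⟨-A.1 0 1, ?_⟩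
      refine (H66.toPSL_eq_iff _ _).2 (Or.inr (H69.sl2_ext ?_ ?_ ?_ ?_)) <;>
        simp only [H66.sl2_neg_apply, H69.up00, H69.up01, H69.up10, H69.up11]
      · exact a
      · simp
      · simpa using c0
      · exact e ▸ a
  · rintro _ ⟨c, rfl⟩
    refine mem_cent1.2 ?_
    show H69.pr F (H69.up _) * _ = _ * H69.pr F (H69.up _)
    rw [← map_mul, ← map_mul, ← H69.up_add, ← H69.up_add, add_comm]

theorem pr_up_zpow {F : Type*} [Field F] (n : ℤ) :
    H69.pr F (H69.up 1) ^ n = H69.pr F (H69.up n) := by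
  have : H69.pr F (H69.up 1) = H69.upHom F (Multiplicative.ofAdd 1) := rfl
  rw [this, ← map_zpow, ← ofAdd_zsmul, zsmul_one]
  rfl

instance factP5 : Fact (Nat.Prime 5) := ⟨by norm_num⟩
instance factP7 : Fact (Nat.Prime 7) := ⟨by norm_num⟩
instance factP13 : Fact (Nat.Prime 13) := ⟨by norm_num⟩

namespace Sit

variable {X : Type u} [Group X] [Finite X]

theorem notE {L : Type*} [Group L] {f : L →* X} (h : Sit f) : ¬ CfgE L :=
  fun ⟨_, _, _, h1, h2, h3, h4, h5⟩ => h5 (h.pE h1 h2 h3 h4)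

omit [Finite X] in
theorem not_model {L F : Type*} [Group L] [Field F] [H13.Tits F] [Finite F] {f : L →* X} (h : Sit f)
    (M : H13.Model L F) (hz : ∃ z : F, z ^ 2 ≠ z) : False := by
  have := M.finite
  have h1 : M.u 0 1 ≠ 1 := by rw [Ne, M.u_eq_one]; simp
  have hzz : M.u 0 1 * M.u 0 1 = 1 := by
    rw [← pow_two, M.u_sq]; simp [M.u_zero]
  have hC : 𝒞[M.u 0 1] = M.U := by
    refine le_antisymm (fun g hg => M.mem_U_of_commute (M.u_mem_U 0 1) h1 (mem_cent1.1 hg)) ?_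
    intro g hg
    obtain ⟨a, b, rfl⟩ := M.mem_U.1 hg
    exact mem_cent1.2 (M.u_zero_comm 1 a b).symm
  obtain ⟨s, hs⟩ := H13.exists_unit_ne_one hz
  have a := h.pB Nat.prime_two (order_two_of hzz h1) (g := M.h s)
    (hC ▸ tp_of_pi Nat.prime_two (isPi_of_isPGroup Nat.prime_two M.isPGroup_U))
    (by rw [hC, M.normalizer_U]; exact M.h_mem_B s)
  rcases mem_zpowers_two hzz a with e | e
  · exact h1 (by simpa using e)
  · rw [M.h_u_conj, M.u_inj, mul_one] at e
    exact hs (Units.ext (H13.sq_mul_θ_eq_one e.2))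

omit [Finite X] in
theorem card_prime {F : Type*} [Field F] [Fintype F] {f : H69.PSL2 F →* X} (h : Sit f) :
    (Fintype.card F).Prime := by
  obtain ⟨p, hc, n, hp, hn⟩ := FiniteField.card' F
  have : Fact p.Prime := ⟨hp⟩
  have h1 : H69.pr F (H69.up 1) ≠ 1 := fun e => one_ne_zero (H69.pr_up_injective
    (e.trans (by simp [H69.up_zero])) : (1 : F) = 0)
  have hz : orderOf (H69.pr F (H69.up 1)) = p := orderOf_eq_prime (by
    rw [← zpow_natCast, pr_up_zpow]; simp [H69.up_zero]) h1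
  have hU : TP 𝒞[H69.pr F (H69.up 1)] := by
    rw [cent_up_one]
    exact tp_of_pi hp (isPi_of_card_eq_pow hp (H69.card_upHom.trans hn))
  have key : ∀ a : F, a ≠ 0 → ∃ m : ℤ, a ^ 2 = m := by
    intro a ha
    have b := h.pB hp hz hU (g := H69.pr F (H69.dg a ha)) (by
      rw [cent_up_one]
      refine mem_norm_of_cj_le fun x hx => ?_
      obtain ⟨y, hy, rfl⟩ := H49.mem_cj'.1 hx
      obtain ⟨c, rfl⟩ := H69.mem_upHom.1 hy
      exact H69.mem_upHom.2 ⟨_, by rw [← map_inv, ← map_mul, ← map_mul, H69.dg_conj_up]⟩)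
    rw [← map_inv, ← map_mul, ← map_mul, H69.dg_conj_up, mul_one] at b
    obtain ⟨m, hm⟩ := mem_zpowers_iff.1 b
    rw [pr_up_zpow] at hm
    exact ⟨m, (H69.pr_up_injective hm).symm⟩
  have e := H69.addSubgroup_eq_top_of_sq (AddSubgroup.zmultiples (1 : F)) (fun a ha c hc => by
    obtain ⟨m, hm⟩ := key a ha
    rw [hm, ← zsmul_eq_mul]
    exact zsmul_mem hc m) (AddSubgroup.mem_zmultiples 1) one_ne_zero
  have := Nat.card_zmultiples (1 : F)
  rw [e, AddSubgroup.card_top, CharP.eq F (CharP.addOrderOf_one F) hc,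
    Nat.card_eq_fintype_card] at this
  exact this ▸ hp

theorem card_cases {F : Type*} [Field F] [Fintype F] {f : H69.PSL2 F →* X} (h : Sit f)
    (h4 : 4 ≤ Fintype.card F) : Fintype.card F = 5 ∨ Fintype.card F = 7 ∨ Fintype.card F = 11 ∨
      Fintype.card F = 13 := by
  have hp := h.card_prime
  obtain ⟨p, hq⟩ : ∃ p, Fintype.card F = p := ⟨_, rfl⟩
  rw [hq] at hp h4 ⊢
  haveI := Fact.mk hp
  haveI : CharP F p := charP_of_card_eq_prime hq
  have ho : p % 2 = 1 := (hp.eq_two_or_odd).resolve_left (by omega)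
  have h3 : p % 3 ≠ 0 := fun e => by
    have := (Nat.prime_dvd_prime_iff_eq Nat.prime_three hp).1 (Nat.dvd_of_mod_eq_zero e)
    omega
  have key : ∀ c : H69.PSL2 F, 3 ∣ orderOf c → orderOf c ∣ 6 := by
    intro c hc
    obtain ⟨a, b, ha, hb, rfl⟩ := H31.psl2_srel p (x := c) fun e =>
      h3 (Nat.mod_eq_zero_of_dvd (hc.trans (orderOf_dvd_of_pow_eq_one e)))
    have h0 : orderOf (a * b) ≠ 0 := (orderOf_pos _).ne'
    have hx : orderOf ((a * b) ^ (orderOf (a * b) / 3)) = 3 := orderOf_pow_orderOf_div h0 hc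
    have ia := inv_eq_of_mul_eq_one_right ha
    have ib := inv_eq_of_mul_eq_one_right hb
    have e1 : a * (a * b) * a⁻¹ = (a * b)⁻¹ := by rw [_root_.mul_inv_rev, ia, ib, ← mul_assoc, ha, one_mul]
    have a1 : a ≠ 1 := by
      rintro rfl
      rw [one_mul] at hc
      exact absurd (hc.trans (orderOf_dvd_of_pow_eq_one (n := 2) (by rw [pow_two, hb]))) (by norm_num)
    have d := h.pD hx (order_two_of ha a1) (by rw [← conj_pow, e1, inv_pow]) (y := a * b)
      ((Commute.refl _).pow_right _).eq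
    have e2 : a * b * a * (a * b)⁻¹ * a = (a * b) ^ 2 := by
      rw [_root_.mul_inv_rev, ia, ib, pow_two]
      simp only [mul_assoc, ha, mul_one]
    rw [e2] at d
    obtain ⟨m, hm⟩ := mem_zpowers_iff.1 d
    refine orderOf_dvd_of_pow_eq_one ?_
    rw [show 6 = 2 * 3 from rfl, pow_mul, ← hm, ← zpow_natCast, ← _root_.zpow_mul, mul_comm,
      _root_.zpow_mul,
      zpow_natCast, orderOf_dvd_iff_pow_eq_one.1 hx.dvd, _root_.one_zpow]
  have hg : Nat.gcd 2 (p - 1) = 2 := Nat.gcd_eq_left (by omega)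
  have six : ∀ m : ℕ, 3 ∣ m → m ∣ 6 → m = 3 ∨ m = 6 := by
    intro m h1 h2
    have := Nat.le_of_dvd (by norm_num) h2
    interval_cases m <;> omega
  by_cases e : p % 3 = 1
  · obtain ⟨c, hc⟩ := H31.psl2_exists_minus (F := F) (by omega)
    rw [hq, hg] at hc
    have := six _ (by omega) (hc ▸ key c (by omega))
    omega
  · obtain ⟨c, hc⟩ := H31.psl2_exists_plus (F := F)
    rw [hq, hg] at hc
    have := six _ (by omega) (hc ▸ key c (by omega))
    omega

theorem not_small {p : ℕ} [Fact p.Prime] {f : H69.PSL2 (ZMod p) →* X} (h : Sit f)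
    (Z T Y : SL(2, ZMod p)) (h1 : Z * Z = -1) (h2 : T * T = -1) (h3 : Z * T = -(T * Z))
    (h4 : Z.1 ≠ 1 ∧ Z.1 ≠ -1 ∧ T.1 ≠ 1 ∧ T.1 ≠ -1 ∧ Z.1 ≠ T.1 ∧ Z.1 ≠ -T.1) (h5 : Y * Z = T * Y)
    (h6 : Y * T = Z * T * Y)
    (h7 : ∀ a b c d : ZMod p, a * d - b * c = 1 →
      (!![a, b; c, d] * Z.1 = Z.1 * !![a, b; c, d] ∨ !![a, b; c, d] * Z.1 = -(Z.1 * !![a, b; c, d])) →
      (!![a, b; c, d] * T.1 = T.1 * !![a, b; c, d] ∨ !![a, b; c, d] * T.1 = -(T.1 * !![a, b; c, d])) ∨
      (!![a, b; c, d] * T.1 = Z.1 * T.1 * !![a, b; c, d] ∨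
        !![a, b; c, d] * T.1 = -(Z.1 * T.1 * !![a, b; c, d]))) : False := by
  obtain ⟨a1, a2, a3, a4, a5, a6⟩ := h4
  refine h.pF (z := H66.toPSL _ Z) (t := H66.toPSL _ T) (y := H66.toPSL _ Y)
    ⟨?_, ?_, ?_, ?_, ?_, ?_⟩ ?_ ?_ ?_
  · rw [← map_mul, h1, H66.toPSL_neg, map_one]
  · rw [← map_mul, h2, H66.toPSL_neg, map_one]
  · rw [← map_mul, h3, H66.toPSL_neg, map_mul]
  · rw [Ne, H66.toPSL_eq_one_iff]
    exact fun e => e.elim (fun e => a1 (congrArg Subtype.val e)) fun e => a2 (congrArg Subtype.val e)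
  · rw [Ne, H66.toPSL_eq_one_iff]
    exact fun e => e.elim (fun e => a3 (congrArg Subtype.val e)) fun e => a4 (congrArg Subtype.val e)
  · rw [Ne, H66.toPSL_eq_iff]
    exact fun e => e.elim (fun e => a5 (congrArg Subtype.val e)) fun e => a6 (congrArg Subtype.val e)
  · rw [← map_mul, h5, map_mul, mul_inv_cancel_right]
  · rw [← map_mul, h6, map_mul, mul_inv_cancel_right, map_mul]
  · intro g hg
    obtain ⟨A, rfl⟩ := H66.toPSL_surjective g
    rw [← map_mul, ← map_mul, H66.toPSL_eq_iff] at hg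
    have e : !![A.1 0 0, A.1 0 1; A.1 1 0, A.1 1 1] = A.1 := (Matrix.eta_fin_two A.1).symm
    have k := h7 _ _ _ _ (H66.sl2_det A)
    rw [e] at k
    rcases k (hg.imp (congrArg Subtype.val) (congrArg Subtype.val)) with k | k
    · left
      rw [mul_inv_eq_iff_eq_mul, ← map_mul, ← map_mul, H66.toPSL_eq_iff]
      exact k.imp Subtype.ext Subtype.ext
    · right
      rw [mul_inv_eq_iff_eq_mul, ← map_mul, ← map_mul, ← map_mul, H66.toPSL_eq_iff]
      exact k.imp Subtype.ext Subtype.ext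

theorem not_five {f : H69.PSL2 (ZMod 5) →* X} (h : Sit f) : False :=
  h.not_small ⟨!![0, 1; 4, 0], by decide⟩ ⟨!![0, 2; 2, 0], by decide⟩ ⟨!![1, 1; 2, 3], by decide⟩
    (by decide) (by decide) (by decide)
    ⟨by decide, by decide, by decide, by decide, by decide, by decide⟩ (by decide) (by decide)
    (by decide +kernel)

theorem not_seven {f : H69.PSL2 (ZMod 7) →* X} (h : Sit f) : False :=
  h.not_small ⟨!![0, 1; 6, 0], by decide⟩ ⟨!![2, 3; 3, 5], by decide⟩ ⟨!![4, 6; 0, 2], by decide⟩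
    (by decide) (by decide) (by decide)
    ⟨by decide, by decide, by decide, by decide, by decide, by decide⟩ (by decide) (by decide)
    (by decide +kernel)

theorem not_eleven {f : H56.L211.K →* X} (h : Sit f) : False := by
  obtain ⟨Z, T, Y, W, hZ, hT, hY, hk, h1, h2, h3, h4, h5, h6⟩ := cfgG_of_chain H56.L211.chain
    0x91b7843650a2 0x857b92a01634 0x2864059a71b3 0x2b0538674a91 (by decide +kernel)
    (by decide +kernel)
  have hm := H56.inG_of_memOK H56.L211.chain (l := [0xb5904863172a, 0x5097ba386421])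
    (by decide +kernel)
  obtain ⟨U, hU, eU⟩ := hm 0xb5904863172a (by simp)
  obtain ⟨G0, hG, eG⟩ := hm 0x5097ba386421 (by simp)
  obtain ⟨σ, eσ⟩ := H56.L211.E.exists_pk_of_valid (P := 0x93b78210a654) (by decide +kernel)
  have mem : ∀ g : H56.L211.K, g ∈ (𝒞[σ]).comap H56.L211.K.subtype ↔
      H14.comp 4 16 12 (H56.L211.E.pk g) 0x93b78210a654 =
        H14.comp 4 16 12 0x93b78210a654 (H56.L211.E.pk g) := by
    intro g
    rw [mem_comap, mem_cent1, ← eσ, ← H56.L211.E.pk_mul, ← H56.L211.E.pk_mul, H56.L211.E.pk_inj]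
    rfl
  have a := h.pG2 hk h1 h2 h3 h4 h5 h6 (by rw [H56.L211.card]; norm_num)
    (K := (𝒞[σ]).comap H56.L211.K.subtype) ((mem Z).2 (by rw [hZ]; decide +kernel))
    ((mem T).2 (by rw [hT]; decide +kernel)) ((mem Y).2 (by rw [hY]; decide +kernel))
    (fun e => absurd ((mem ⟨G0, hG⟩).1 (e.ge (mem_top _))) (by rw [eG]; decide +kernel))
    (u := ⟨U, hU⟩) ((mem ⟨U, hU⟩).2 (by rw [eU]; decide +kernel))
  have b : ∀ v : H56.L211.K, ⟨U, hU⟩ * Z * ⟨U, hU⟩⁻¹ = v →
      H14.comp 4 16 12 0xb5904863172a 0x91b7843650a2 =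
        H14.comp 4 16 12 (H56.L211.E.pk v) 0xb5904863172a := by
    intro v e
    rw [← eU, ← hZ, ← H56.L211.E.pk_mul, ← H56.L211.E.pk_mul, ← e]
    simp
  rcases a with e | e | e | e
  · exact hk.z1 (by simpa using e)
  · exact absurd (b _ e) (by rw [hZ]; decide +kernel)
  · exact absurd (b _ e) (by rw [hT]; decide +kernel)
  · exact absurd (b _ e) (by rw [coe_mul, H56.L211.E.pk_mul, hZ, hT]; decide +kernel)

theorem thirteen {f : H56.L213.K →* X} (h : Sit f) : Function.Surjective f := by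
  obtain ⟨Z, T, Y, W, -, -, -, hk, h1, h2, h3, h4, h5, h6⟩ := cfgG_of_chain H56.L213.chain
    0x9c14d0732a65b8 0x87410dc35b62a9 0x92b1085c3a764d 0x8ca6057bd31942 (by decide +kernel)
    (by decide +kernel)
  exact h.pG1 hk h1 h2 h3 h4 h5 h6 (by rw [H56.L213.card]; norm_num)

theorem psl2 {F : Type*} [Field F] [Fintype F] {f : H69.PSL2 F →* X} (h : Sit f)
    (h4 : 4 ≤ Fintype.card F) : Nonempty (X ≃* H69.PSL2 (ZMod 13)) := by
  rcases h.card_cases h4 with e | e | e | e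
  · exact (h.comp (H29.pslEquiv (Fin 2) (ZMod.ringEquivOfPrime F (by norm_num) e))).not_five.elim
  · exact (h.comp (H29.pslEquiv (Fin 2) (ZMod.ringEquivOfPrime F (by norm_num) e))).not_seven.elim
  · obtain ⟨e⟩ := H56.L211.equiv e
    exact (h.comp e.symm).not_eleven.elim
  · obtain ⟨e⟩ := H56.L213.equiv e
    obtain ⟨e'⟩ := H56.L213.equiv (ZMod.card 13)
    have h' := h.comp e.symm
    exact ⟨(MulEquiv.ofBijective _ ⟨h'.inj, h'.thirteen⟩).symm.trans e'.symm⟩

end Sit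

end Cfsg.Agent.H19
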