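import Cfsg.Agent.H51.GoldA
import Cfsg.Agent.H51.GoldB
import Cfsg.Agent.H51.GoldC
import Cfsg.Agent.H22.SL2Mult
import Cfsg.Agent.H69.PSLRankOne
import Cfsg.Agent.H44.Layer

/-! Groups without real elements of order 3; rank one rigidity. -/

set_option autoImplicit false
set_option linter.unusedSectionVars false

namespace Cfsg.Agent.H19

open Subgroup Cfsg.Agent.H49
open scoped commutatorElement

universe u

/-- no real element of order `3` -/
def NR (G : Type*) [Group G] : Prop := ∀ x y : G, orderOf x = 3 → y * x * y⁻¹ ≠ x⁻¹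

section

variable {G L : Type*} [Group G] [Group L]

theorem NR.inj (h : NR L) (f : G →* L) (hf : Function.Injective f) : NR G := fun x y hx e =>
  h (f x) (f y) (by rwa [orderOf_injective f hf]) (by rw [← map_inv, ← map_inv, ← e]; simp)

theorem NR.eq_one (h : NR G) {u y : G} {k : ℕ} (hu : u ^ 3 ^ k = 1)
    (hxy : y * u * y⁻¹ = u⁻¹) : u = 1 := by
  have := Fact.mk Nat.prime_three
  induction k with
  | zero => simpa using hu
  | succ k ih =>
    by_cases h1 : u ^ 3 ^ k = 1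
    · exact ih h1
    · exact absurd (by rw [← conj_pow, hxy, inv_pow])
        (h (u ^ 3 ^ k) y (orderOf_eq_prime (by rw [← pow_mul, ← pow_succ, hu]) h1))

theorem NR.cent (h : NR G) {P : Subgroup G} (hP : IsPGroup 3 P) {k : ℕ} {t : G} (ht : t ∈ 𝒩(P))
    (hk : t ^ 2 ^ k = 1) : t ∈ 𝒞(P) := by
  induction k generalizing t with
  | zero =>
    rw [pow_zero, pow_one] at hk
    rw [hk]
    exact one_mem _
  | succ k ih =>
    have h2 : t ^ 2 ∈ 𝒞(P) := ih (pow_mem ht 2) (by rw [← pow_mul, ← pow_succ', hk])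
    rw [mem_centralizer_iff]
    intro x hx
    have hv : x⁻¹ * (t * x * t⁻¹) ∈ P :=
      mul_mem (inv_mem hx) (conj_mem_of_norm le_rfl ht hx)
    obtain ⟨j, hj⟩ := hP ⟨_, hv⟩
    have hj' : (x⁻¹ * (t * x * t⁻¹)) ^ 3 ^ j = 1 := congrArg Subtype.val hj
    have e : t * t * x = x * (t * t) := by
      have := mem_centralizer_iff.1 h2 x hx
      rw [pow_two] at this
      exact this.symm
    have h3 := h.eq_one (y := t) hj' (by
      calc t * (x⁻¹ * (t * x * t⁻¹)) * t⁻¹ = t * x⁻¹ * t⁻¹ * (t * t * x) * t⁻¹ * t⁻¹ := by group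
        _ = (x⁻¹ * (t * x * t⁻¹))⁻¹ := by rw [e]; group)
    calc x * t = x * (x⁻¹ * (t * x * t⁻¹)) * t := by rw [h3, mul_one]
      _ = t * x := by group

theorem conj_odd_pow {x y : G} (h : y * x * y⁻¹ = x⁻¹) (m : ℕ) :
    y ^ (2 * m + 1) * x * (y ^ (2 * m + 1))⁻¹ = x⁻¹ := by
  have h' : y * x⁻¹ * y⁻¹ = x := by rw [← conj_inv, h, inv_inv]
  induction m with
  | zero => simpa using h
  | succ m ih =>
    calc y ^ (2 * (m + 1) + 1) * x * (y ^ (2 * (m + 1) + 1))⁻¹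
        = y * (y * (y ^ (2 * m + 1) * x * (y ^ (2 * m + 1))⁻¹) * y⁻¹) * y⁻¹ := by
          rw [show 2 * (m + 1) + 1 = (2 * m + 1) + 1 + 1 by ring, pow_succ', pow_succ']; group
      _ = x⁻¹ := by rw [ih, h', h]

theorem exists_odd_pow [Finite G] (y : G) : ∃ m k : ℕ, (y ^ (2 * m + 1)) ^ 2 ^ k = 1 := by
  obtain ⟨k, m, hm, e⟩ := Nat.exists_eq_two_pow_mul_odd (orderOf_pos y).ne'
  obtain ⟨m, rfl⟩ := hm
  exact ⟨m, k, by rw [← pow_mul, mul_comm, ← e, pow_orderOf_eq_one]⟩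

theorem ne_inv_of_three {x : G} (hx : orderOf x = 3) : x ≠ x⁻¹ := by
  intro h
  have : x ^ 2 = 1 := by rw [pow_two]; nth_rewrite 1 [h]; exact inv_mul_cancel x
  have := orderOf_dvd_of_pow_eq_one this
  rw [hx] at this
  exact absurd this (by norm_num)

theorem mem_norm_zpowers_of_inv {x y : G} [Finite G] (h : y * x * y⁻¹ = x⁻¹) :
    y ∈ 𝒩(zpowers x) := by
  rw [mem_norm_iff_cj, cj_zpowers, h, zpowers_inv]

theorem isPGroup_zpowers_three {x : G} (hx : orderOf x = 3) : IsPGroup 3 (zpowers x) :=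
  IsPGroup.of_card (n := 1) (by rw [Nat.card_zpowers, hx]; rfl)

theorem NR.map [Finite G] (h : NR G) (f : G →* L) (hf : Function.Surjective f) : NR L := by
  have := Fact.mk Nat.prime_three
  have : Finite L := Finite.of_surjective f hf
  intro x y hx e
  let N : Subgroup L := 𝒩(zpowers x)
  let f' : N.comap f →* N := (f.comp (N.comap f).subtype).codRestrict N fun a => a.2
  have hf' : Function.Surjective f' := by
    rintro ⟨b, hb⟩
    obtain ⟨a, rfl⟩ := hf b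
    exact ⟨⟨a, hb⟩, rfl⟩
  have : ((zpowers x).subgroupOf N).Normal := normal_subgroupOf le_rfl
  obtain ⟨T, hT, hTQ, hN⟩ := H51.exists_frattini (p := 3) f' hf' ((zpowers x).subgroupOf N)
    ((isPGroup_zpowers_three hx).comap_subtype)
  obtain ⟨a, ha, e1⟩ := hN.ge (mem_top (⟨y, mem_norm_zpowers_of_inv e⟩ : N))
  obtain ⟨m, k, hk⟩ := exists_odd_pow a
  have hc := (h.inj _ (N.comap f).subtype_injective).cent hT (pow_mem ha (2 * m + 1)) hk
  obtain ⟨b, hb, e2⟩ := hTQ.ge (show (⟨x, le_normalizer (mem_zpowers x)⟩ : N) ∈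
    (zpowers x).subgroupOf N from mem_zpowers x)
  have e3 := congrArg (fun z => (f' z : L)) (mem_centralizer_iff.1 hc b hb)
  simp only [map_mul, map_pow, e1, e2, coe_mul, SubmonoidClass.coe_pow] at e3
  have e4 := conj_odd_pow e m
  rw [← e3, mul_inv_cancel_right] at e4
  exact ne_inv_of_three hx e4

theorem NR.not_involves [Finite G] (h : NR G) : ¬ Involves (Equiv.Perm (Fin 3)) G := by
  rintro ⟨K, R, _, ⟨e⟩⟩
  have h1 : NR (Equiv.Perm (Fin 3)) := (h.inj _ K.subtype_injective).map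
    (e.toMonoidHom.comp (QuotientGroup.mk' _)) (e.surjective.comp (QuotientGroup.mk'_surjective _))
  have := Fact.mk Nat.prime_three
  exact h1 (Equiv.swap 0 1 * Equiv.swap 1 2) (Equiv.swap 0 1)
    (orderOf_eq_prime (by decide) (by decide)) (by decide)

theorem nr_of_oddThree [Finite G] (h : H51.OddThree G) : NR G := by
  intro x y hx e
  obtain ⟨m, k, hk⟩ := exists_odd_pow y
  have h1 := h.eq_one (isPGroup_zpowers_three hx) (by
    rw [Ne, zpowers_eq_bot]
    rintro rfl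
    simp at hx) (pow_mem (mem_norm_zpowers_of_inv e) (2 * m + 1)) hk
  have e4 := conj_odd_pow e m
  rw [h1] at e4
  exact ne_inv_of_three hx (by simpa using e4)

theorem NR.pi {ι : Type*} {X : ι → Type*} [∀ i, Group (X i)] (h : ∀ i, NR (X i)) :
    NR ((i : ι) → X i) := by
  have := Fact.mk Nat.prime_three
  intro x y hx e
  refine ne_inv_of_three hx (funext fun i => ?_)
  have h3 : x i ^ 3 ^ 1 = 1 := by
    have := congrFun (pow_orderOf_eq_one x) i
    rwa [hx] at this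
  have := (h i).eq_one h3 (congrFun e i)
  rw [Pi.inv_apply, this, inv_one]

theorem NR.of_ker [Finite G] (h : NR L) (f : G →* L) (hk : (Nat.card f.ker).Coprime 3) : NR G := by
  intro x y hx e
  have h3 : f x ^ 3 ^ 1 = 1 := by rw [pow_one, ← map_pow, ← hx, pow_orderOf_eq_one, map_one]
  have h1 := h.eq_one (y := f y) h3 (by rw [← map_inv, ← map_inv, ← e]; simp)
  have h2 := orderOf_dvd_natCard (⟨x, h1⟩ : f.ker)
  rw [← orderOf_coe, hx] at h2
  exact (Nat.Prime.coprime_iff_not_dvd Nat.prime_three).1 hk.symm h2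

/-- `U` is an abelian subgroup of `J` transitive on its other conjugates. -/
def RankOneIn (J U : Subgroup G) : Prop :=
  U ≤ J ∧ IsMulCommutative U ∧
    ∀ g ∈ J, ∀ h ∈ J, g ∉ 𝒩(U) → h ∉ 𝒩(U) → ∃ u ∈ U, g⁻¹ * u * h ∈ 𝒩(U)

theorem RankOneIn.map {J U : Subgroup G} (h : RankOneIn J U) (f : G →* L) :
    RankOneIn (J.map f) (U.map f) := by
  have hc := h.2.1
  refine ⟨map_mono h.1, inferInstance, ?_⟩
  rintro _ ⟨g, hg, rfl⟩ _ ⟨k, hk, rfl⟩ h1 h2
  obtain ⟨u, hu, e⟩ := h.2.2 g hg k hk (fun e => h1 (le_normalizer_map f (mem_map_of_mem f e)))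
    (fun e => h2 (le_normalizer_map f (mem_map_of_mem f e)))
  refine ⟨f u, mem_map_of_mem f hu, le_normalizer_map f ⟨_, e, by simp⟩⟩

theorem RankOneIn.rigid {J U : Subgroup G} (h : RankOneIn J U) (hJ : H44.QS J)
    (hn : ¬ J ≤ 𝒩(U)) {c : G} (hc : c ∈ 𝒞(U)) (hcJ : c ∈ 𝒩(J)) : c ∈ J ⊔ 𝒞(J) := by
  obtain ⟨g₀, hg₀, hg₀'⟩ := SetLike.not_le_iff_exists.1 hn
  have hcN : c ∈ 𝒩(U) := cent_le_norm U hc
  obtain ⟨u, hu, e⟩ := h.2.2 g₀ hg₀ (c * g₀ * c⁻¹) (conj_mem_of_norm le_rfl hcJ hg₀) hg₀'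
    (fun e => hg₀' (by simpa [mul_assoc] using mul_mem (mul_mem (inv_mem hcN) e) hcN))
  have hdU : u * c ∈ 𝒞(U) := mul_mem (abelian_iff.1 h.2.1 hu) hc
  have hdJ : u * c ∈ 𝒩(J) := mul_mem (le_normalizer (h.1 hu)) hcJ
  have e0 : g₀⁻¹ * (u * c) * g₀ ∈ 𝒩(U) := by simpa [mul_assoc] using mul_mem e hcN
  let K : Subgroup G := ⨅ g : J, cj (g : G) 𝒩(U)
  have hK : ∀ x, x ∈ K ↔ ∀ g ∈ J, g⁻¹ * x * g ∈ 𝒩(U) := fun x => by
    simp only [K, mem_iInf, mem_cj]
    exact ⟨fun h g hg => h ⟨g, hg⟩, fun h g => h g g.2⟩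
  have hdK : u * c ∈ K := by
    rw [hK]
    intro g hg
    by_cases hgN : g ∈ 𝒩(U)
    · exact mul_mem (mul_mem (inv_mem hgN) (cent_le_norm U hdU)) hgN
    · obtain ⟨v, hv, e1⟩ := h.2.2 g₀ hg₀ g hg hg₀' hgN
      have e2 : v * (u * c) = u * c * v := mem_centralizer_iff.1 hdU v hv
      have e3 : g⁻¹ * (u * c) * g =
          (g₀⁻¹ * v * g)⁻¹ * (g₀⁻¹ * (u * c) * g₀) * (g₀⁻¹ * v * g) := by
        calc g⁻¹ * (u * c) * g = g⁻¹ * v⁻¹ * (v * (u * c)) * g := by group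
          _ = _ := by rw [e2]; group
      rw [e3]
      exact mul_mem (mul_mem (inv_mem e1) e0) e1
  have hJK : J ≤ 𝒩(K) := le_norm_iff.2 fun a ha x hx => (hK _).2 fun g hg => by
    have := (hK x).1 hx (a⁻¹ * g) (mul_mem (inv_mem ha) hg)
    simpa [mul_assoc] using this
  have h1 : J ⊓ K ≤ 𝒞(J) := by
    rcases hJ.normal (J ⊓ K) inf_le_left (norm_inf le_normalizer hJK) with h1 | h1
    · refine absurd (fun x hx => ?_) hn
      simpa using (hK x).1 (h1.ge hx).2 1 (one_mem _)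
    · exact h1
  have h2 : ⁅K ⊓ 𝒩(J), J⁆ ≤ J ⊓ K :=
    le_inf (commutator_le_right_of_norm inf_le_right)
      ((commutator_mono inf_le_left le_rfl).trans (commutator_le_left_of_norm hJK))
  have h3 := H49.commutator_eq_bot_iff.1 (H44.commutator_eq_bot_of_perfect hJ.perfect
    (H49.commutator_eq_bot_iff.2 (h2.trans h1)))
  rw [← inv_mul_cancel_left u c]
  exact mul_mem_sup (inv_mem (h.1 hu)) (h3 ⟨hdK, hdJ⟩)

end

section psl

open Cfsg.Agent.H69

variable {F : Type*} [Field F]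

theorem pr_mem_norm [Finite F] {A : SL2 F} (hA : A.1 1 0 = 0) :
    pr F A ∈ 𝒩((upHom F).range) := by
  apply mem_norm_of_cj_le
  intro x hx
  obtain ⟨y, hy, rfl⟩ := H49.mem_cj'.1 hx
  obtain ⟨c, rfl⟩ := mem_upHom.1 hy
  refine mem_upHom.2 ⟨A.1 0 0 ^ 2 * c, ?_⟩
  rw [← map_inv, ← map_mul, ← map_mul]
  congr 1
  have hd := sl2_det A
  rw [hA] at hd
  apply sl2_ext <;>
    simp only [sl2_mul_apply, sl2_inv00, sl2_inv01, sl2_inv10, sl2_inv11, up00, up01, up10, up11, hA]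
  · linear_combination hd
  · ring
  · ring
  · linear_combination hd

theorem rankOneIn_psl [Finite F] : RankOneIn ⊤ (upHom F).range := by
  refine ⟨le_top, inferInstance, fun g _ h _ hg hh => ?_⟩
  obtain ⟨A, rfl⟩ := pr_surjective g
  obtain ⟨B, rfl⟩ := pr_surjective h
  have hA : A.1 1 0 ≠ 0 := fun e => hg (pr_mem_norm e)
  have hB : B.1 1 0 ≠ 0 := fun e => hh (pr_mem_norm e)
  refine ⟨pr F (up ((A.1 0 0 * B.1 1 0 - A.1 1 0 * B.1 0 0) / (A.1 1 0 * B.1 1 0))),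
    mem_upHom.2 ⟨_, rfl⟩, ?_⟩
  rw [← map_inv, ← map_mul, ← map_mul]
  apply pr_mem_norm
  simp only [sl2_mul_apply, sl2_inv10, sl2_inv11, up00, up01, up10, up11]
  field_simp
  ring

theorem rankOneIn_of_psl {G : Type*} [Group G] [Finite G] [Fintype F] {p n : ℕ} (hp : p.Prime)
    (hn : 1 ≤ n) (hF : Fintype.card F = p ^ n) {J U : Subgroup G} (e : J ≃* PSL2 F)
    (hU : IsSylowOf p U J) : RankOneIn J U := by
  have := Fact.mk hp
  obtain ⟨S, rfl⟩ := exists_sylow_of hp hU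
  obtain ⟨φ, h1, h2, h3⟩ := exists_normalized_psl S hn hF e.toMonoidHom e.surjective
  have h4 : Function.Injective φ := by
    rw [← MonoidHom.ker_eq_bot_iff, h2, MonoidHom.ker_eq_bot_iff]
    exact e.injective
  let e' : J ≃* PSL2 F := MulEquiv.ofBijective φ ⟨h4, h1⟩
  have h5 := ((rankOneIn_psl (F := F)).map e'.symm.toMonoidHom).map J.subtype
  rw [map_top_of_surjective _ e'.symm.surjective, map_subtype_top, ← h3, Subgroup.map_map,
    Subgroup.map_map] at h5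
  convert h5 using 2
  ext x
  exact (congrArg Subtype.val (e'.symm_apply_apply x)).symm

end psl

end Cfsg.Agent.H19
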